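import Cfsg.Agent.H29.Push.SymOffender
import Mathlib

/-!
In symmetric components the Baumann subgroup acts as the Thompson subgroup does.
-/

set_option autoImplicit false
set_option linter.style.haveILetI false
set_option linter.unusedSectionVars false

open scoped commutatorElement

namespace Cfsg.Agent.H29.Push

open Subgroup
open Cfsg.Agent.H34.Push (vee cee Comps SymRep SymCase Ctx)
open Cfsg.Agent.H34.Star (evW evAct evPair)

universe u

variable {G : Type u} [Group G] [Finite G] {p : ℕ} [Fact p.Prime] {T : Sylow p G} {M : Subgroup G}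
  {r : ℕ} {E : Fin r → Subgroup G} {n : ℕ}

/-- A subgroup of even-weight vectors invariant under all permutations and containing one pair is everything. -/
theorem evW_eq_top {N : ℕ} (hN : 0 < N) (S : AddSubgroup ↥(evW N)) (hS : ∀ τ, ∀ x ∈ S, evAct τ x ∈ S)
    {a b : Fin N} (hab : a ≠ b) (h : evPair a b ∈ S) : S = ⊤ := by
  have hall : ∀ c d, c ≠ d → evPair c d ∈ S := by
    intro c d hcd
    set b' := Equiv.swap a c b with hb'
    have hne : c ≠ b' := fun e => hab ((Equiv.swap a c).injective ((Equiv.swap_apply_left a c).trans (e.trans hb')))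
    have := hS (Equiv.swap b' d * Equiv.swap a c) _ h
    rwa [H34.Star.evAct_pair, Equiv.Perm.mul_apply, Equiv.Perm.mul_apply, Equiv.swap_apply_left,
      Equiv.swap_apply_of_ne_of_ne hne hcd, ← hb', Equiv.swap_apply_left] at this
  rw [eq_top_iff]
  intro x _
  have h0 := H34.Star.ev_ext hN (QuotientAddGroup.mk' S) 0 fun c d hcd =>
    (QuotientAddGroup.eq_zero_iff _).2 (hall c d hcd)
  exact (QuotientAddGroup.eq_zero_iff x).1 (DFunLike.congr_fun h0 x)

/-- An element normalising a component permutes the points of its module. -/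
theorem exists_induced (h : SymCase T E n) (F : Frame E n p) (j : Fin r) {g : G}
    (hg : ∀ x ∈ E j, g * x * g⁻¹ ∈ E j) (hg' : ∀ x ∈ E j, g⁻¹ * x * g ∈ E j) :
    ∃ κ, ∀ v w : ↥(vee p G), (w : G) = g * (v : G) * g⁻¹ →
      Multiplicative.toAdd (F.Φ j w) = evAct κ (Multiplicative.toAdd (F.Φ j v)) := by
  haveI : (vee p G).Normal := H34.Push.vee_normal
  let c : G → ↥(vee p G) → ↥(vee p G) := fun g v => ⟨g * v * g⁻¹, Normal.conj_mem inferInstance _ v.2 g⟩
  have hcmul : ∀ g (v w : ↥(vee p G)), c g (v * w) = c g v * c g w := fun g v w =>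
    Subtype.ext (by simp [c])
  have hcinv : ∀ g (v : ↥(vee p G)), c g⁻¹ (c g v) = v := fun g v => Subtype.ext (by simp [c, mul_assoc])
  let q : ↥(vee p G) → ↥(evW (2 ^ n + 1)) := fun v => Multiplicative.toAdd (F.Φ j v)
  have hqs : Function.Surjective q := fun x => by
    obtain ⟨v, -, hv⟩ := F.surjΦ j (Multiplicative.ofAdd x)
    exact ⟨v, by show Multiplicative.toAdd (F.Φ j v) = x; rw [hv]; rfl⟩
  choose L hL using hqs
  have hwd : ∀ g : G, (∀ x ∈ E j, g⁻¹ * x * g ∈ E j) → ∀ v v', q v = q v' → q (c g v) = q (c g v') := by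
    intro g hg v v' e
    have hk : (v⁻¹ * v' : ↥(vee p G)).1 ∈ centralizer (E j : Set G) := (F.kerΦ j _).1 (by
      rw [map_mul, map_inv, Multiplicative.toAdd.injective e, inv_mul_cancel])
    have hk' : F.Φ j ((c g v)⁻¹ * c g v') = 1 := by
      rw [F.kerΦ]
      refine mem_centralizer_iff.2 fun x hx => ?_
      have h1 := mem_centralizer_iff.1 hk _ (hg x hx)
      rw [coe_mul, coe_inv] at h1
      show x * ((g * (v : G) * g⁻¹)⁻¹ * (g * (v' : G) * g⁻¹)) = (g * (v : G) * g⁻¹)⁻¹ * (g * (v' : G) * g⁻¹) * x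
      calc x * ((g * (v : G) * g⁻¹)⁻¹ * (g * (v' : G) * g⁻¹))
          = g * (g⁻¹ * x * g * ((v : G)⁻¹ * v')) * g⁻¹ := by group
        _ = g * ((v : G)⁻¹ * v' * (g⁻¹ * x * g)) * g⁻¹ := by rw [h1]
        _ = _ := by group
    rw [map_mul, map_inv, inv_mul_eq_one] at hk'
    exact congrArg Multiplicative.toAdd hk'
  have hqmul : ∀ v w, q (v * w) = q v + q w := fun v w => by
    show Multiplicative.toAdd (F.Φ j (v * w)) = _
    rw [map_mul]; rfl
  have hg1 : ∀ x ∈ E j, (g⁻¹)⁻¹ * x * g⁻¹ ∈ E j := fun x hx => by rw [inv_inv]; exact hg x hx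
  let y : ↥(evW (2 ^ n + 1)) ≃+ ↥(evW (2 ^ n + 1)) :=
    { toFun := fun x => q (c g (L x))
      invFun := fun x => q (c g⁻¹ (L x))
      left_inv := fun x => by
        show q (c g⁻¹ (L (q (c g (L x))))) = x
        rw [hwd g⁻¹ hg1 _ (c g (L x)) (hL _), hcinv, hL]
      right_inv := fun x => by
        show q (c g (L (q (c g⁻¹ (L x))))) = x
        have := hcinv g⁻¹ (L x)
        rw [inv_inv] at this
        rw [hwd g hg' _ (c g⁻¹ (L x)) (hL _), this, hL]
      map_add' := fun x x' => by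
        show q (c g (L (x + x'))) = q (c g (L x)) + q (c g (L x'))
        rw [← hqmul, ← hcmul]
        exact hwd g hg' _ _ (by rw [hqmul, hL, hL, hL]) }
  have hEj : E j ≤ ⨆ i, E i := le_iSup E j
  have hkey : ∀ g : G, (∀ x ∈ E j, g * x * g⁻¹ ∈ E j) → (∀ x ∈ E j, g⁻¹ * x * g ∈ E j) →
      ∀ π, ∃ π', ∀ x, q (c g (L (evAct π x))) = evAct π' (q (c g (L x))) := by
    intro g hg hg' π
    obtain ⟨e, he, hπ⟩ := F.surjπ j π
    refine ⟨F.π j ⟨g * e * g⁻¹, hEj (hg _ he)⟩, fun x => ?_⟩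
    have h1 : q (c e (L x)) = evAct π x := by
      show Multiplicative.toAdd (F.Φ j _) = _
      rw [F.act j e (L x) _ rfl, hπ]
      exact congrArg _ (hL x)
    rw [hwd g hg' (L (evAct π x)) (c e (L x)) ((hL _).trans h1.symm)]
    exact F.act j ⟨g * e * g⁻¹, hEj (hg _ he)⟩ (c g (L x)) (c g (c e (L x))) (by simp [c, mul_assoc])
  obtain ⟨κ, hκ⟩ := H34.Star.perm_of_normalises (three_le_degree h.pos_n) (odd_degree h.pos_n) y
    (fun π => hkey g hg hg' π) (fun π => hkey g⁻¹ (fun x hx => by rw [inv_inv]; exact hg' x hx)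
      hg1 π)
  refine ⟨κ, fun v w hw => ?_⟩
  rw [show w = c g v from Subtype.ext hw]
  have := hκ (q v)
  show q (c g v) = evAct κ (q v)
  rw [← this]
  exact hwd g hg' _ _ (hL _).symm

/-- Elements moving points inside their pairs fix the vectors of the pairs. -/
theorem commutes_pair_vector (h : Comps T E) {F : Frame E n p} (P : Pairs F (T : Subgroup G)) {g : G}
    (hg : g ∈ swapGroup P) {j : Fin r} {a : Fin (2 ^ n + 1)} {v : ↥(vee p G)}
    (hv : (v : G) ∈ ⁅vee p G, E j⁆) (hΦ : F.Φ j v = Multiplicative.ofAdd (evPair a (P.σ j a))) :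
    g * (v : G) * g⁻¹ = v := by
  classical
  set Z := centralizer ({(v : G)} : Set G) with hZ
  have hvC : cee p G ≤ Z := fun c hc => mem_centralizer_singleton_iff.2 (mem_centralizer_iff.1 hc v v.2).symm
  suffices key : swapGroup P ≤ Z by
    have := mem_centralizer_singleton_iff.1 (key hg)
    rw [this, mul_inv_cancel_right]
  refine (le_iSup_inf_sup P (fun i => E i ⊓ Z) (fun i => inf_le_left) fun i b hb => ?_).trans
    (sup_le (iSup_le fun i => inf_le_right) hvC)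
  obtain ⟨e, he, hπ⟩ := F.surjπ i (Equiv.swap b (P.σ i b))
  refine ⟨e, ⟨he, mem_centralizer_singleton_iff.2 ?_⟩, hπ⟩
  by_cases hij : i = j
  · subst hij
    have := F.swap i e v b _ ((P.pair i).ne hb).symm he hπ (by
      rw [hΦ]
      exact evAct_pair_of_mem (P.pair i).invol (swap_mem_swapsOf b) a)
    conv_rhs => rw [← this]
    group
  · have hE : (e : G) ∈ E i := he
    exact mem_centralizer_iff.1 (commutator_eq_bot_iff_le_centralizer.1 (h.cross j i (Ne.symm hij)) hv) e hE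

/-- `B(T)` acts as `J(T)` does. -/
theorem baumann_le_swapGroup (hc : Ctx T M) (h : SymCase T E n) {F : Frame E n p} (P : Pairs F (T : Subgroup G)) :
    Cfsg.baumannSubgroupOf p (T : Subgroup G) ≤ swapGroup P := by
  classical
  haveI hVn : (vee p G).Normal := H34.Push.vee_normal
  haveI : (cee p G).Normal := H34.Push.cee_normal
  obtain ⟨hJ, -⟩ := thompson_pairs hc h P
  set EE := ⨆ i, E i with hEE
  intro b hb
  -- elements of `V` fixed by `J(T)` are fixed by `B(T)`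
  have hfix : ∀ v : ↥(vee p G), (∀ g ∈ Cfsg.thompsonSubgroupOf p (T : Subgroup G), g * (v : G) * g⁻¹ = v) →
      b * (v : G) * b⁻¹ = v := by
    intro v hv
    have hvcen : (v : G) ∈ centralizer (Cfsg.thompsonSubgroupOf p (T : Subgroup G) : Set G) :=
      mem_centralizer_iff.2 fun g hg => mul_inv_eq_iff_eq_mul.1 (hv g hg)
    obtain ⟨A, hAT, hA⟩ := H34.exists_max_le_sylow T
    have hAJ : A ≤ Cfsg.thompsonSubgroupOf p (T : Subgroup G) := by
      rw [H34.thompsonSubgroupOf_sylow]; exact le_sSup ⟨hAT, hA⟩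
    have hvA : (v : G) ∈ A := by
      refine H34.le_of_mem_max hA (H34.isElementaryAbelian_mono (H34.Push.vee_elementary (G := G) (p := p))
        (zpowers_le.2 v.2)) ?_ (mem_zpowers _)
      exact le_centralizer_iff.1 (zpowers_le.2 (centralizer_le hAJ hvcen))
    have hvZ : (v : G) ∈ Cfsg.omegaOne p (Cfsg.centerThompsonOf p (T : Subgroup G)) :=
      H34.mem_omegaOne ⟨hAJ hvA, hvcen⟩ (hA.1.2 _ hvA)
    have := mem_centralizer_iff.1 hb.2 _ hvZ
    rw [← this, mul_inv_cancel_right]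
  have hfixpair : ∀ j a (v : ↥(vee p G)), (v : G) ∈ ⁅vee p G, E j⁆ →
      F.Φ j v = Multiplicative.ofAdd (evPair a (P.σ j a)) → b * (v : G) * b⁻¹ = v := fun j a v hv hΦ =>
    hfix v fun g hg => commutes_pair_vector h.toComps P (hJ hg) hv hΦ
  have hfixZ : ∀ v : ↥(vee p G), (v : G) ∈ centralizer (EE : Set G) → b * (v : G) * b⁻¹ = v := fun v hv =>
    hfix v fun g hg => mul_inv_eq_iff_eq_mul.2 (mem_centralizer_iff.1 hv g (swapGroup_le P (hJ hg)))
  have hn3 := three_le_degree h.pos_n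
  have hpt : ∀ j, ∃ a, a ≠ P.f j := fun j => by
    haveI : Nontrivial (Fin (2 ^ n + 1)) := Fin.nontrivial_iff_two_le.2 (by omega)
    exact exists_ne _
  -- `b` fixes every component
  have hbn : ∀ j, (E j).map (MulAut.conj b).toMonoidHom = E j := by
    intro j
    obtain ⟨k, hk⟩ := h.perm b hb.1 j
    suffices k = j by rw [hk, this]
    by_contra hkj
    obtain ⟨a, ha⟩ := hpt j
    obtain ⟨v, hv, hΦ⟩ := F.surjΦ j (Multiplicative.ofAdd (evPair a (P.σ j a)))
    have hmem : b * (v : G) * b⁻¹ ∈ ⁅vee p G, E k⁆ := by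
      have h1 : (⁅vee p G, E j⁆ : Subgroup G).map (MulAut.conj b).toMonoidHom ≤ ⁅vee p G, E k⁆ := by
        rw [map_commutator, hk]
        refine commutator_mono ?_ le_rfl
        rintro _ ⟨x, hx, rfl⟩
        exact hVn.conj_mem x hx b
      exact h1 ⟨v, hv, rfl⟩
    rw [hfixpair j a v hv hΦ] at hmem
    have := (F.kerΦ j v).2 (commutator_eq_bot_iff_le_centralizer.1 (h.cross k j hkj) hmem)
    rw [hΦ] at this
    exact H34.Star.evPair_ne_zero ((P.pair j).ne ha).symm (congrArg Multiplicative.toAdd this)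
  have hb1 : ∀ j, ∀ x ∈ E j, b * x * b⁻¹ ∈ E j := fun j x hx => (hbn j).le ⟨x, hx, rfl⟩
  have hb2 : ∀ j, ∀ x ∈ E j, b⁻¹ * x * b ∈ E j := fun j x hx => by
    obtain ⟨y, hy, hyx⟩ := (hbn j).ge hx
    rw [← show b * y * b⁻¹ = x from hyx]
    simpa [mul_assoc] using hy
  choose κ hκ using fun j => exists_induced h F j (hb1 j) (hb2 j)
  have hκP : ∀ j, κ j ∈ swapsOf (P.σ j) (P.pair j).invol := fun j =>
    mem_swapsOf_of_fix (P.pair j) fun a ha => by
      obtain ⟨v, hv, hΦ⟩ := F.surjΦ j (Multiplicative.ofAdd (evPair a (P.σ j a)))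
      have := hκ j v v (hfixpair j a v hv hΦ).symm
      rw [hΦ, toAdd_ofAdd] at this
      exact this.symm
  obtain ⟨x, -, hxπ⟩ := exists_with_images F E (fun _ => le_rfl) κ fun i => F.surjπ i (κ i)
  have hxW : (x : G) ∈ swapGroup P := mem_swapGroup.2 ⟨x.2, fun i => by rw [Subtype.coe_eta, hxπ i]; exact hκP i⟩
  suffices hz : (x : G)⁻¹ * b ∈ cee p G by
    rw [show b = (x : G) * ((x : G)⁻¹ * b) by group]
    exact mul_mem hxW (cee_le_swapGroup h.toComps P hz)
  set z := (x : G)⁻¹ * b with hz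
  -- `z` is trivial on every module
  have hztriv : ∀ j (v w : ↥(vee p G)), (w : G) = z * (v : G) * z⁻¹ → F.Φ j w = F.Φ j v := by
    intro j v w hw
    let u : ↥(vee p G) := ⟨b * v * b⁻¹, hVn.conj_mem _ v.2 b⟩
    refine Multiplicative.toAdd.injective ?_
    rw [F.act j x⁻¹ u w (by rw [hw, hz]; simp [u, mul_assoc]), hκ j v u rfl, ← H34.Star.evAct_mul,
      map_inv, hxπ j, inv_mul_cancel, H34.Star.evAct_one]
  have hzE : ∀ j, ∀ e ∈ E j, z * e * z⁻¹ ∈ E j := by
    intro j e he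
    rw [hz, show (x : G)⁻¹ * b * e * ((x : G)⁻¹ * b)⁻¹ = (x : G)⁻¹ * (b * e * b⁻¹) * x by group]
    exact (mem_normalizer_iff''.1 (iSup_le_normalizer h.toComps j x.2) _).1 (hb1 j e he)
  -- `z` commutes with the components modulo `C`
  have hzC : ∀ j, ∀ e ∈ E j, e⁻¹ * (z * e * z⁻¹) ∈ cee p G := by
    intro j e he
    have hE : ∀ {y}, y ∈ E j → y ∈ EE := fun hy => le_iSup E j hy
    have key : F.π j ⟨_, hE (hzE j e he)⟩ = F.π j ⟨e, hE he⟩ := by
      refine (inv_mul_eq_one.1 (H34.Star.evAct_faithful hn3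
        (π := (F.π j ⟨e, hE he⟩)⁻¹ * F.π j ⟨_, hE (hzE j e he)⟩) fun w => ?_)).symm
      obtain ⟨v, -, hv⟩ := F.surjΦ j (Multiplicative.ofAdd w)
      let v' : ↥(vee p G) := ⟨z * v * z⁻¹, hVn.conj_mem _ v.2 z⟩
      let t1 : ↥(vee p G) := ⟨e * v * e⁻¹, hVn.conj_mem _ v.2 e⟩
      let t2 : ↥(vee p G) := ⟨z * t1 * z⁻¹, hVn.conj_mem _ t1.2 z⟩
      have e1 := F.act j ⟨_, hE (hzE j e he)⟩ v' t2 (by simp [t2, t1, v', mul_assoc])
      have e2 := F.act j ⟨e, hE he⟩ v t1 rfl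
      rw [hztriv j t1 t2 rfl, hztriv j v v' rfl, e2, hv, toAdd_ofAdd] at e1
      rw [H34.Star.evAct_mul, ← e1, ← H34.Star.evAct_mul, inv_mul_cancel, H34.Star.evAct_one]
    have := (F.kerπ ((⟨e, hE he⟩ : ↥EE)⁻¹ * ⟨_, hE (hzE j e he)⟩)).1 fun i => by
      rw [map_mul, map_inv]
      by_cases hi : i = j
      · subst hi; rw [key, inv_mul_cancel]
      · rw [F.other i j hi ⟨e, hE he⟩ he, F.other i j hi _ (hzE j e he), inv_one, one_mul]
    simpa using this
  have hzfix : ∀ v : ↥(vee p G), b * (v : G) * b⁻¹ = v → (x : G) * (v : G) * (x : G)⁻¹ = v →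
      z * (v : G) = (v : G) * z := by
    intro v h1 h2
    have e2 : (x : G)⁻¹ * (v : G) * x = v := by
      calc (x : G)⁻¹ * (v : G) * x = (x : G)⁻¹ * ((x : G) * v * (x : G)⁻¹) * x := by rw [h2]
        _ = v := by group
    rw [mul_inv_eq_iff_eq_mul] at h1
    calc z * (v : G) = (x : G)⁻¹ * (b * v) := by rw [hz]; group
      _ = (x : G)⁻¹ * v * x * ((x : G)⁻¹ * b) := by rw [h1]; group
      _ = _ := by rw [e2]
  have hclosed : ∀ j, ∀ e ∈ E j, ∀ v ∈ vee p G, z * v = v * z → z * (e * v * e⁻¹) = e * v * e⁻¹ * z := by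
    intro j e he v hv hzv
    have hk := hzC j e he
    have h1 : z * v * z⁻¹ = v := by rw [hzv]; group
    rw [← mul_inv_eq_iff_eq_mul]
    have hk' := mem_centralizer_iff.1 hk v hv
    calc z * (e * v * e⁻¹) * z⁻¹
        = e * ((e⁻¹ * (z * e * z⁻¹)) * (z * v * z⁻¹) * (e⁻¹ * (z * e * z⁻¹))⁻¹) * e⁻¹ := by group
      _ = e * (v * (e⁻¹ * (z * e * z⁻¹)) * (e⁻¹ * (z * e * z⁻¹))⁻¹) * e⁻¹ := by rw [h1, hk']
      _ = e * v * e⁻¹ := by group
  -- so `z` centralises `V`
  let Sz : Subgroup G := vee p G ⊓ centralizer ({z} : Set G)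
  suffices hV : vee p G ≤ Sz by
    exact mem_centralizer_iff.2 fun v hv => mem_centralizer_singleton_iff.1 (hV hv).2
  have hSzC : vee p G ⊓ centralizer (EE : Set G) ≤ Sz := fun v hv =>
    ⟨hv.1, mem_centralizer_singleton_iff.2 (hzfix ⟨v, hv.1⟩ (hfixZ ⟨v, hv.1⟩ hv.2)
      (mul_inv_eq_iff_eq_mul.2 (mem_centralizer_iff.1 hv.2 x x.2))).symm⟩
  refine h.dec.ge.trans (sup_le hSzC (iSup_le fun j v hv => ?_))
  have hvV : v ∈ vee p G := commutator_le_left _ _ hv
  let S : AddSubgroup ↥(evW (2 ^ n + 1)) :=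
    { carrier := {w | ∃ u : ↥(vee p G), (u : G) ∈ ⁅vee p G, E j⁆ ∧ (u : G) ∈ Sz ∧
        F.Φ j u = Multiplicative.ofAdd w}
      zero_mem' := ⟨1, one_mem _, one_mem _, by rw [map_one]; rfl⟩
      add_mem' := by
        rintro w w' ⟨u, hu1, hu2, hu3⟩ ⟨u', hu1', hu2', hu3'⟩
        exact ⟨u * u', mul_mem hu1 hu1', mul_mem hu2 hu2', by rw [map_mul, hu3, hu3']; rfl⟩
      neg_mem' := by
        rintro w ⟨u, hu1, hu2, hu3⟩
        exact ⟨u⁻¹, inv_mem hu1, inv_mem hu2, by rw [map_inv, hu3]; rfl⟩ }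
  have hStop : S = ⊤ := by
    obtain ⟨a, ha⟩ := hpt j
    refine evW_eq_top (by omega) S ?_ ((P.pair j).ne ha).symm ?_
    · rintro τ w ⟨u, hu1, hu2, hu3⟩
      obtain ⟨e, he, hπ⟩ := F.surjπ j τ
      refine ⟨⟨e * u * (e : G)⁻¹, hVn.conj_mem _ u.2 _⟩, ?_, ⟨hVn.conj_mem _ u.2 _, ?_⟩, ?_⟩
      · exact (mem_normalizer_iff.1 (normalizer_commutator_ge_right (vee p G) (E j) he) _).1 hu1
      · exact mem_centralizer_singleton_iff.2
          (hclosed j e he u u.2 (mem_centralizer_singleton_iff.1 hu2.2).symm).symm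
      · refine Multiplicative.toAdd.injective ?_
        rw [F.act j e u _ rfl, hπ, hu3]; rfl
    · obtain ⟨u, hu, hΦ⟩ := F.surjΦ j (Multiplicative.ofAdd (evPair a (P.σ j a)))
      exact ⟨u, hu, ⟨u.2, mem_centralizer_singleton_iff.2 (hzfix u (hfixpair j a u hu hΦ)
        (commutes_pair_vector h.toComps P hxW hu hΦ)).symm⟩, hΦ⟩
  obtain ⟨u, hu1, hu2, hu3⟩ := (hStop.ge (AddSubgroup.mem_top (Multiplicative.toAdd (F.Φ j ⟨v, hvV⟩))) : _ ∈ S)
  rw [ofAdd_toAdd] at hu3
  have hd : (u : G)⁻¹ * v ∈ Sz := by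
    refine hSzC ⟨(vee p G).mul_mem ((vee p G).inv_mem u.2) hvV, ?_⟩
    have hUj : (u : G)⁻¹ * v ∈ ⁅vee p G, E j⁆ := mul_mem (inv_mem hu1) hv
    refine le_centralizer_iff.1 (iSup_le fun i => le_centralizer_iff.1 (zpowers_le.2 ?_)) (mem_zpowers _)
    by_cases hi : i = j
    · subst hi
      exact (F.kerΦ i (u⁻¹ * ⟨v, hvV⟩)).1 (by rw [map_mul, map_inv, hu3, inv_mul_cancel])
    · exact commutator_eq_bot_iff_le_centralizer.1 (h.cross j i (Ne.symm hi)) hUj
  have := mul_mem hu2 hd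
  rwa [mul_inv_cancel_left] at this

end Cfsg.Agent.H29.Push
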