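import Cfsg.Agent.H62.DyadicOrbits
import Cfsg.Agent.H34.Star.PermNormal
import Mathlib

/-!
Pairings of an odd number of points: the group of their swaps, the Sylow 2-subgroups of symmetric groups of
degree `2ⁿ + 1`, and the exact bound for commutative permutation groups on functions to two points.
-/

set_option autoImplicit false
set_option linter.style.haveILetI false

namespace Cfsg.Agent.H29.Push

open Equiv
open scoped Pointwise
open Cfsg.Agent.H34.Star (evW evAct evPair)

variable {α : Type*}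

/-- An involution with exactly one fixed point `f`. -/
structure Pairing (σ : Perm α) (f : α) : Prop where
  invol : ∀ a, σ (σ a) = a
  fixed : ∀ a, σ a = a ↔ a = f

theorem Pairing.σ_f {σ : Perm α} {f : α} (h : Pairing σ f) : σ f = f := (h.fixed f).2 rfl

theorem Pairing.ne {σ : Perm α} {f : α} (h : Pairing σ f) {a : α} (ha : a ≠ f) : σ a ≠ a :=
  fun e => ha ((h.fixed a).1 e)

theorem Pairing.ne_f {σ : Perm α} {f : α} (h : Pairing σ f) {a : α} (ha : a ≠ f) : σ a ≠ f :=
  fun e => ha (by rw [← h.invol a, e, h.σ_f])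

/-- The permutations moving every point inside its pair. -/
def swapsOf (σ : Perm α) (hσ : ∀ a, σ (σ a) = a) : Subgroup (Perm α) where
  carrier := {π | ∀ a, π a = a ∨ π a = σ a}
  one_mem' := fun _ => Or.inl rfl
  mul_mem' := by
    intro π π' h h' a
    show π (π' a) = a ∨ π (π' a) = σ a
    rcases h' a with e | e <;> rw [e]
    · exact h a
    · rcases h (σ a) with e' | e'
      · exact Or.inr e'
      · exact Or.inl (e'.trans (hσ a))
  inv_mem' := by
    intro π h a
    rcases h (π⁻¹ a) with e | e <;> rw [show π (π⁻¹ a) = a from π.apply_symm_apply a] at e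
    · exact Or.inl e.symm
    · refine Or.inr ?_
      conv_rhs => rw [e, hσ]

theorem mem_swapsOf {σ : Perm α} {hσ : ∀ a, σ (σ a) = a} {π : Perm α} :
    π ∈ swapsOf σ hσ ↔ ∀ a, π a = a ∨ π a = σ a := Iff.rfl

theorem swap_mem_swapsOf [DecidableEq α] {σ : Perm α} {hσ : ∀ a, σ (σ a) = a} (a : α) :
    swap a (σ a) ∈ swapsOf σ hσ := by
  intro x
  rw [swap_apply_def]
  split_ifs with h h'
  · exact Or.inr (by rw [h])
  · exact Or.inr (by rw [h', hσ])
  · exact Or.inl rfl

/-- The swaps of the pairs generate. -/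
theorem swapsOf_le [DecidableEq α] [Fintype α] {σ : Perm α} {f : α} (h : Pairing σ f) {H : Subgroup (Perm α)}
    (hH : ∀ a, a ≠ f → swap a (σ a) ∈ H) : swapsOf σ h.invol ≤ H := by
  suffices key : ∀ (k : ℕ) (π : Perm α), π.support.card ≤ k → π ∈ swapsOf σ h.invol → π ∈ H from
    fun π hπ => key _ π le_rfl hπ
  intro k
  induction k with
  | zero =>
    intro π hk _
    rw [Nat.le_zero, Perm.card_support_eq_zero] at hk
    subst hk
    exact one_mem H
  | succ k ih =>
    intro π hk hπ
    by_cases h1 : π = 1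
    · subst h1; exact one_mem H
    obtain ⟨a, ha⟩ : ∃ a, π a ≠ a := by
      by_contra hall
      push Not at hall
      exact h1 (Equiv.ext hall)
    have hπa : π a = σ a := (hπ a).resolve_left ha
    have haf : a ≠ f := fun e => ha (by rw [hπa, (h.fixed a).2 e])
    have hmem : swap a (σ a) * π ∈ H := by
      refine ih _ ?_ (mul_mem (swap_mem_swapsOf a) hπ)
      have hs : (swap a (σ a) * π).support.card < π.support.card := by
        rw [← hπa]
        exact Perm.card_support_swap_mul ha
      omega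
    have := mul_mem (hH a haf) hmem
    rwa [← mul_assoc, swap_mul_self, one_mul] at this

/-- Transpositions through one point generate. -/
theorem eq_top_of_swaps [DecidableEq α] [Finite α] {f : α} {H : Subgroup (Perm α)}
    (hH : ∀ a, a ≠ f → swap f a ∈ H) : H = ⊤ := by
  rw [eq_top_iff, ← Perm.closure_isSwap, Subgroup.closure_le]
  rintro _ ⟨x, y, hxy, rfl⟩
  by_cases hx : x = f
  · subst hx; exact hH y (Ne.symm hxy)
  by_cases hy : y = f
  · subst hy; rw [swap_comm]; exact hH x hx
  have e := Equiv.swap_mul_swap_mul_swap (x := x) (y := f) (z := y)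
    hx hxy
  rw [SetLike.mem_coe, swap_comm x y, ← e]
  exact mul_mem (mul_mem (hH y hy) (by rw [swap_comm]; exact hH x hx)) (hH y hy)

/-- A Sylow 2-subgroup of the symmetric group of degree `2ⁿ + 1` fixes one point, is transitive on the others and
its transpositions are the swaps of one pairing. -/
theorem sylow_pairing {n N : ℕ} (hn : 1 ≤ n) (hN : N = 2 ^ n + 1) (P : Sylow 2 (Perm (Fin N))) :
    ∃ σ f, Pairing σ f ∧ (∀ π ∈ P, π f = f) ∧
      (∀ a b, a ≠ f → b ≠ f → ∃ π ∈ P, π a = b) ∧
      ∀ a b, a ≠ b → swap a b ∈ P → b = σ a := by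
  classical
  haveI : Fact (Nat.Prime 2) := ⟨Nat.prime_two⟩
  obtain ⟨k, hk⟩ : ∃ k, 2 ^ n = 2 * k := ⟨2 ^ (n - 1), by rw [← pow_succ']; congr 1; omega⟩
  obtain ⟨g, hg⟩ := MulAction.exists_smul_eq (Perm (Fin N)) (H62.dyadicSylow N) P
  have hP : ∀ π, π ∈ P ↔ g⁻¹ * π * g ∈ H62.dyadicSubgroup N := by
    intro π
    rw [← hg]
    show π ∈ MulAut.conj g • (H62.dyadicSylow N : Subgroup (Perm (Fin N))) ↔ _
    simp [Subgroup.mem_pointwise_smul_iff_inv_smul_mem, MulAut.smul_def, MulAut.conj_inv_apply,
      H62.dyadicSylow]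
  let last : Fin N := ⟨2 ^ n, by omega⟩
  let s0 : Fin N → Fin N := fun i =>
    if h : i.val < 2 ^ n then (if i.val % 2 = 0 then ⟨i.val + 1, by omega⟩ else ⟨i.val - 1, by omega⟩) else i
  have hs0 : ∀ i, s0 (s0 i) = i := by
    intro i
    simp only [s0]
    split_ifs <;> first
      | rfl
      | (apply Fin.ext; simp only; omega)
      | (exfalso; simp only at *; omega)
  have hs0fix : ∀ i, s0 i = i ↔ i = last := by
    intro i
    simp only [s0, last]
    split_ifs <;> simp [Fin.ext_iff] <;> omega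
  let σ : Perm (Fin N) := g * Function.Involutive.toPerm s0 hs0 * g⁻¹
  have hσ : ∀ a, σ a = g (s0 (g⁻¹ a)) := fun a => rfl
  refine ⟨σ, g last, ⟨fun a => ?_, fun a => ?_⟩, fun π hπ => ?_, fun a b ha hb => ?_, fun a b hab hmem => ?_⟩
  · rw [hσ, hσ]; simp [hs0]
  · rw [hσ]
    constructor
    · intro e
      rw [← (hs0fix (g⁻¹ a)).1 (g.injective (by rw [e]; simp))]
      simp
    · rintro rfl
      simp [(hs0fix last).2 rfl]
  · have h1 := H62.pairStab_fix_last (H62.dyadicSubgroup_le_pairStab ((hP π).1 hπ)) (i := last)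
      (by simp only [last]; omega)
    simpa [Perm.mul_apply, ← Perm.eq_inv_iff_eq] using congrArg g h1
  · have hlt : ∀ x, x ≠ g last → (g⁻¹ x).val < 2 ^ n := fun x hx => by
      have h1 : g⁻¹ x ≠ last := fun e => hx (by rw [← e]; simp)
      have h2 := (g⁻¹ x).isLt
      simp only [last, ne_eq, Fin.ext_iff] at h1
      omega
    obtain ⟨π, hπ, e⟩ := H62.dyadic_transitive (k := n) (n := N) (by omega) (by rw [pow_succ]; omega)
      (g⁻¹ a) (g⁻¹ b) (hlt a ha) (hlt b hb)
    exact ⟨g * π * g⁻¹, (hP _).2 (by rw [show g⁻¹ * (g * π * g⁻¹) * g = π by group]; exact hπ), by rw [Perm.mul_apply, Perm.mul_apply, e]; exact g.apply_symm_apply b⟩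
  · have h1 := H62.dyadicSubgroup_le_pairStab ((hP _).1 hmem)
    rw [show g⁻¹ * swap a b * g = swap (g⁻¹ a) (g⁻¹ b) by
      rw [Equiv.swap_apply_apply]; simp] at h1
    set x := g⁻¹ a with hx
    set y := g⁻¹ b with hy
    have hxy : x ≠ y := fun e => hab (g⁻¹.injective e)
    have key : ∀ u v : Fin N, u ≠ v → swap u v ∈ H62.pairStab N → u.val < 2 ^ n → v = s0 u := by
      intro u v huv hs hu
      have hsu : s0 u ≠ u := fun e => by
        have := (hs0fix u).1 e
        simp [this, last] at hu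
      have hdiv : (s0 u).val / 2 = u.val / 2 := by
        simp only [s0, dif_pos hu]
        split_ifs <;> simp only <;> omega
      by_contra hne
      have h3 := (hs (s0 u) u).2 hdiv
      rw [swap_apply_left, swap_apply_of_ne_of_ne hsu (Ne.symm hne)] at h3
      have h4 : u.val ≠ v.val := fun e => huv (Fin.ext e)
      have h5 : (s0 u).val ≠ v.val := fun e => hne (Fin.ext e.symm)
      have h6 : (s0 u).val ≠ u.val := fun e => hsu (Fin.ext e)
      omega
    have hxlt : x.val < 2 ^ n := by
      by_contra hx'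
      have hxl : x = last := Fin.ext (by simp only [last]; omega)
      have := H62.pairStab_fix_last h1 (i := x) (by rw [hxl]; simp only [last]; omega)
      rw [swap_apply_left] at this
      exact hxy this.symm
    have := key x y hxy h1 hxlt
    rw [hσ, ← hx, ← this, hy]
    simp

theorem two_mul_le_two_pow {k : ℕ} : 2 * k ≤ 2 ^ k := by
  induction k with
  | zero => simp
  | succ k ih =>
    have := Nat.one_le_two_pow (n := k)
    rcases k with _ | k
    · simp
    · rw [pow_succ]; omega

theorem le_two_of_two_pow_le {k : ℕ} (h : 2 ^ k ≤ 2 * k) : k ≤ 2 := by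
  by_contra hk
  obtain ⟨j, rfl⟩ : ∃ j, k = j + 3 := ⟨k - 3, by omega⟩
  have := two_mul_le_two_pow (k := j + 2)
  rw [show (2 : ℕ) ^ (j + 3) = 2 * 2 ^ (j + 2) by rw [show j + 3 = (j + 2) + 1 from rfl, pow_succ']] at h
  omega

/-- The bound for commutative groups of permutations, and the case of equality: orbits have at most two
points and each orbit of two points contributes its swap. -/
theorem abelian_offender [Fintype α] [DecidableEq α] (Y : Subgroup (Perm α)) (hY : ∀ x ∈ Y, ∀ y ∈ Y, x * y = y * x) :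
    Nat.card Y * Nat.card {v : α → ZMod 2 // ∀ y ∈ Y, ∀ a, v (y a) = v a} ≤ 2 ^ Fintype.card α ∧
      (2 ^ Fintype.card α ≤ Nat.card Y * Nat.card {v : α → ZMod 2 // ∀ y ∈ Y, ∀ a, v (y a) = v a} →
        ∀ y ∈ Y, ∀ a, y (y a) = a ∧ (y a ≠ a → swap a (y a) ∈ Y)) := by
  classical
  let orb : α → Finset α := fun a => Finset.univ.filter fun b => ∃ y ∈ Y, y a = b
  have mem : ∀ a b, b ∈ orb a ↔ ∃ y ∈ Y, y a = b := fun a b => by simp [orb]
  have self : ∀ a, a ∈ orb a := fun a => (mem a a).2 ⟨1, one_mem _, rfl⟩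
  have heq : ∀ a b, b ∈ orb a → orb b = orb a := by
    intro a b hb
    obtain ⟨y, hy, rfl⟩ := (mem a b).1 hb
    ext c
    rw [mem, mem]
    constructor
    · rintro ⟨z, hz, rfl⟩; exact ⟨z * y, mul_mem hz hy, rfl⟩
    · rintro ⟨z, hz, rfl⟩
      exact ⟨z * y⁻¹, mul_mem hz (inv_mem hy), by simp⟩
  let R : Finset (Finset α) := Finset.univ.image orb
  have hR : ∀ a, orb a ∈ R := fun a => Finset.mem_image_of_mem _ (Finset.mem_univ a)
  choose rep hrep using fun O : R => Finset.mem_image.1 O.2
  have hrepO : ∀ O : R, orb (rep O) = O.1 := fun O => (hrep O).2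
  have hmemO : ∀ (O : R) (a : α), a ∈ O.1 → orb a = O.1 := fun O a ha => by
    rw [← hrepO O] at ha ⊢; exact heq _ a ha
  let F : ↥Y → ((O : R) → ↥(O.1)) := fun y O =>
    ⟨(y : Perm α) (rep O), by rw [← hrepO O]; exact (mem _ _).2 ⟨y, y.2, rfl⟩⟩
  have hagree : ∀ y ∈ Y, ∀ y' ∈ Y, ∀ a b, b ∈ orb a → y a = y' a → y b = y' b := by
    intro y hy y' hy' a b hb e
    obtain ⟨z, hz, rfl⟩ := (mem a b).1 hb
    rw [← Perm.mul_apply, hY y hy z hz, Perm.mul_apply, e, ← Perm.mul_apply, ← hY y' hy' z hz, Perm.mul_apply]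
  have hF : Function.Injective F := by
    intro y y' e
    refine Subtype.ext (Equiv.ext fun a => ?_)
    refine hagree y y.2 y' y'.2 (rep ⟨orb a, hR a⟩) a (by rw [hrepO]; exact self a) ?_
    exact congrArg Subtype.val (congrFun e ⟨orb a, hR a⟩)
  let Gv : {v : α → ZMod 2 // ∀ y ∈ Y, ∀ a, v (y a) = v a} → (R → ZMod 2) := fun v O => v.1 (rep O)
  have hGv : Function.Injective Gv := by
    intro v v' e
    refine Subtype.ext (funext fun a => ?_)
    obtain ⟨y, hy, hya⟩ := (mem (rep ⟨orb a, hR a⟩) a).1 (by rw [hrepO]; exact self a)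
    rw [← hya, v.2 y hy, v'.2 y hy]
    exact congrFun e ⟨orb a, hR a⟩
  have c1 := Nat.card_le_card_of_injective F hF
  have c2 := Nat.card_le_card_of_injective Gv hGv
  rw [Nat.card_pi] at c1
  simp only [Nat.card_eq_fintype_card, Fintype.card_coe] at c1
  rw [Nat.card_fun, Nat.card_zmod, Nat.card_eq_finsetCard] at c2
  have hsum : ∑ O : R, O.1.card = Fintype.card α := by
    rw [Finset.univ_eq_attach, Finset.sum_attach R Finset.card, ← Finset.card_univ,
      Finset.card_eq_sum_card_image orb Finset.univ]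
    refine Finset.sum_congr rfl fun O hO => ?_
    obtain ⟨a, -, rfl⟩ := Finset.mem_image.1 hO
    congr 1
    ext b
    simp only [Finset.mem_filter, Finset.mem_univ, true_and]
    exact ⟨fun hb => heq a b hb, fun e => e ▸ self b⟩
  have hmid : (∏ O : R, O.1.card) * 2 ^ R.card = ∏ O : R, 2 * O.1.card := by
    rw [Finset.prod_mul_distrib, Finset.prod_const, Finset.card_univ, Fintype.card_coe, mul_comm]
  have hbig : ∏ O : R, 2 * O.1.card ≤ 2 ^ Fintype.card α := by
    rw [← hsum, ← Finset.prod_pow_eq_pow_sum]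
    exact Finset.prod_le_prod' fun O _ => two_mul_le_two_pow
  have hY' : Nat.card Y = Fintype.card Y := Nat.card_eq_fintype_card
  refine ⟨le_trans (Nat.mul_le_mul (hY'.le.trans c1) c2) (hmid.le.trans hbig), fun hge y hy a => ?_⟩
  have e1 : ∏ O : R, O.1.card ≤ Nat.card Y := by
    have h2 : (∏ O : R, O.1.card) * 2 ^ R.card ≤ Nat.card Y * 2 ^ R.card :=
      (hmid.le.trans hbig).trans (hge.trans (Nat.mul_le_mul_left _ c2))
    exact Nat.le_of_mul_le_mul_right h2 (by positivity)
  have hFbij : Function.Bijective F := by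
    refine (Fintype.bijective_iff_injective_and_card F).2 ⟨hF, le_antisymm (Fintype.card_le_of_injective F hF) ?_⟩
    rw [Fintype.card_pi]
    simp only [Fintype.card_coe]
    exact e1.trans hY'.le
  have hterm : ∀ O : R, O.1.card ≤ 2 := by
    intro O
    refine le_two_of_two_pow_le ?_
    by_contra hlt
    have hpos : ∀ O : R, 0 < 2 * O.1.card := fun O => by
      have : 0 < O.1.card := Finset.card_pos.2 ⟨rep O, by rw [← hrepO O]; exact self _⟩
      omega
    have h3 : ∏ O : R, 2 * O.1.card < 2 ^ Fintype.card α := by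
      rw [← hsum, ← Finset.prod_pow_eq_pow_sum]
      exact Finset.prod_lt_prod (fun O _ => hpos O) (fun O _ => two_mul_le_two_pow)
        ⟨O, Finset.mem_univ O, not_le.1 hlt⟩
    exact absurd ((hge.trans (Nat.mul_le_mul (hY'.le.trans c1) c2)).trans hmid.le) (not_le.2 h3)
  have hyy : y (y a) = a := by
    have h2 := hterm ⟨orb a, hR a⟩
    by_contra hne
    have hya : y a ≠ a := fun e => hne (by rw [e, e])
    have hya' : y (y a) ≠ y a := fun e => hya (y.injective e)
    have h3 : ({a, y a, y (y a)} : Finset α) ⊆ orb a := by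
      intro x hx
      simp only [Finset.mem_insert, Finset.mem_singleton] at hx
      rcases hx with rfl | rfl | rfl
      · exact self _
      · exact (mem _ _).2 ⟨y, hy, rfl⟩
      · exact (mem _ _).2 ⟨y * y, mul_mem hy hy, rfl⟩
    have := Finset.card_le_card h3
    rw [Finset.card_insert_of_notMem (by simp [Ne.symm hya, Ne.symm hne]),
      Finset.card_pair (Ne.symm hya')] at this
    simp only at h2
    omega
  refine ⟨hyy, fun hya => ?_⟩
  obtain ⟨z, hz⟩ := hFbij.surjective fun O =>
    if O.1 = orb a then F ⟨y, hy⟩ O else F 1 O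
  have key : (z : Perm α) = swap a (y a) := by
    refine Equiv.ext fun b => ?_
    let O : R := ⟨orb b, hR b⟩
    have hb : b ∈ orb (rep O) := by rw [hrepO]; exact self b
    have hzO := congrArg Subtype.val (congrFun hz O)
    by_cases hba : orb b = orb a
    · rw [if_pos hba] at hzO
      rw [hagree z z.2 y hy (rep O) b hb hzO]
      have hb' : b ∈ orb a := hba ▸ self b
      have h2 := hterm ⟨orb a, hR a⟩
      have : b = a ∨ b = y a := by
        by_contra hno
        push Not at hno
        have h3 : ({a, y a, b} : Finset α) ⊆ orb a := by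
          intro x hx
          simp only [Finset.mem_insert, Finset.mem_singleton] at hx
          rcases hx with rfl | rfl | rfl
          · exact self _
          · exact (mem _ _).2 ⟨y, hy, rfl⟩
          · exact hb'
        have := Finset.card_le_card h3
        rw [Finset.card_insert_of_notMem (by simp [Ne.symm hya, Ne.symm hno.1]),
          Finset.card_pair (Ne.symm hno.2)] at this
        simp only at h2
        omega
      rcases this with rfl | rfl
      · rw [swap_apply_left]
      · rw [hyy, swap_apply_right]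
    · rw [if_neg hba] at hzO
      rw [hagree z z.2 1 (one_mem _) (rep O) b hb hzO, Perm.one_apply]
      refine (swap_apply_of_ne_of_ne ?_ ?_).symm
      · rintro rfl; exact hba rfl
      · rintro rfl; exact hba (heq _ _ ((mem _ _).2 ⟨y, hy, rfl⟩))
  exact key ▸ z.2

/-- The number of even-weight vectors. -/
theorem card_evW {N : ℕ} (hodd : (N : ZMod 2) = 1) : Nat.card ↥(evW N) * 2 = 2 ^ N := by
  have h : ∀ f : Fin N → ZMod 2, (fun i => f i + ∑ j, f j) ∈ evW N := fun f => by
    rw [H34.Star.mem_evW, Finset.sum_add_distrib, Finset.sum_const, Finset.card_univ, Fintype.card_fin,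
      nsmul_eq_mul, hodd, one_mul]
    exact H34.Para.z2_add_self _
  have hsv : ∀ (v : ↥(evW N)) (c : ZMod 2), ∑ i, (v.1 i + c) = c := fun v c => by
    rw [Finset.sum_add_distrib, show ∑ i, v.1 i = 0 from v.2, zero_add, Finset.sum_const, Finset.card_univ,
      Fintype.card_fin, nsmul_eq_mul, hodd, one_mul]
  have e : ↥(evW N) × ZMod 2 ≃ (Fin N → ZMod 2) :=
    { toFun := fun vc => fun i => vc.1.1 i + vc.2
      invFun := fun f => (⟨_, h f⟩, ∑ j, f j)
      left_inv := fun vc => Prod.ext (Subtype.ext (funext fun i => by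
        show vc.1.1 i + vc.2 + ∑ j, (vc.1.1 j + vc.2) = vc.1.1 i
        rw [hsv, add_assoc, H34.Para.z2_add_self, add_zero])) (hsv _ _)
      right_inv := fun f => funext fun i => by
        show f i + (∑ j, f j) + ∑ j, f j = f i
        rw [add_assoc, H34.Para.z2_add_self, add_zero] }
  have h2 := Nat.card_congr e
  rwa [Nat.card_prod, Nat.card_zmod, Nat.card_fun, Nat.card_zmod, Nat.card_fin] at h2

/-- Vectors of even weight fixed by a group of permutations, against all fixed vectors. -/
theorem two_mul_fixed_evW {N : ℕ} (hodd : (N : ZMod 2) = 1) (Y : Subgroup (Perm (Fin N))) :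
    Nat.card {v : ↥(evW N) // ∀ y ∈ Y, evAct y v = v} * 2 ≤
      Nat.card {v : Fin N → ZMod 2 // ∀ y ∈ Y, ∀ a, v (y a) = v a} := by
  conv_lhs => arg 2; rw [← Nat.card_zmod 2]
  rw [← Nat.card_prod]
  refine Nat.card_le_card_of_injective (fun vc => ⟨fun i => vc.1.1.1 i + vc.2, fun y hy a => ?_⟩) ?_
  · show vc.1.1.1 (y a) + vc.2 = _
    have := congrFun (congrArg Subtype.val (vc.1.2 y hy)) (y a)
    simp only [evAct] at this
    rw [← this]
    simp
  · rintro ⟨v, c⟩ ⟨v', c'⟩ e
    have e' := congrArg Subtype.val e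
    have hs : ∀ (w : ↥(evW N)) (d : ZMod 2), ∑ i, (w.1 i + d) = d := fun w d => by
      rw [Finset.sum_add_distrib, show ∑ i, w.1 i = 0 from w.2, zero_add, Finset.sum_const, Finset.card_univ,
        Fintype.card_fin, nsmul_eq_mul, hodd, one_mul]
    have hc : c = c' := by rw [← hs v.1 c, ← hs v'.1 c']; exact congrArg (fun f => ∑ i, f i) e'
    subst hc
    exact Prod.ext (Subtype.ext (Subtype.ext (funext fun i => add_right_cancel (congrFun e' i)))) rfl

theorem odd_degree {n : ℕ} (hn : 1 ≤ n) : ((2 ^ n + 1 : ℕ) : ZMod 2) = 1 := by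
  rw [Nat.cast_add, Nat.cast_pow, show ((2 : ℕ) : ZMod 2) = 0 from rfl, zero_pow (by omega : n ≠ 0),
    zero_add, Nat.cast_one]

theorem three_le_degree {n : ℕ} (hn : 1 ≤ n) : 3 ≤ 2 ^ n + 1 := by
  have : 2 ^ 1 ≤ 2 ^ n := Nat.pow_le_pow_right (by norm_num) hn
  omega

theorem card_evW_two_pow {n : ℕ} (hn : 1 ≤ n) : Nat.card ↥(evW (2 ^ n + 1)) = 2 ^ 2 ^ n := by
  have := card_evW (odd_degree hn)
  rw [pow_succ] at this
  omega

/-- The bound on the even-weight module, with equality only for groups of swaps. -/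
theorem evW_offender {n : ℕ} (hn : 1 ≤ n) (Y : Subgroup (Perm (Fin (2 ^ n + 1))))
    (hY : ∀ x ∈ Y, ∀ y ∈ Y, x * y = y * x) :
    Nat.card Y * Nat.card {v : ↥(evW (2 ^ n + 1)) // ∀ y ∈ Y, evAct y v = v} ≤ Nat.card ↥(evW (2 ^ n + 1)) ∧
      (Nat.card ↥(evW (2 ^ n + 1)) ≤ Nat.card Y * Nat.card {v : ↥(evW (2 ^ n + 1)) // ∀ y ∈ Y, evAct y v = v} →
        ∀ y ∈ Y, ∀ a, y (y a) = a ∧ (y a ≠ a → swap a (y a) ∈ Y)) := by
  obtain ⟨h1, h2⟩ := abelian_offender Y hY
  rw [Fintype.card_fin, ← card_evW (odd_degree hn)] at h1 h2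
  have h3 := two_mul_fixed_evW (odd_degree hn) Y
  refine ⟨Nat.le_of_mul_le_mul_right (c := 2) ?_ two_pos, fun hge => h2 ?_⟩
  · rw [mul_assoc]
    exact (Nat.mul_le_mul_left _ h3).trans h1
  · refine (Nat.mul_le_mul_right 2 hge).trans ?_
    rw [mul_assoc]
    exact Nat.mul_le_mul_left _ h3

/-- A permutation fixing the vector of each pair moves points inside their pairs. -/
theorem mem_swapsOf_of_fix {N : ℕ} {σ : Perm (Fin N)} {f : Fin N} (h : Pairing σ f) {κ : Perm (Fin N)}
    (hκ : ∀ a, a ≠ f → evAct κ (evPair a (σ a)) = evPair a (σ a)) : κ ∈ swapsOf σ h.invol := by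
  have key : ∀ a, a ≠ f → κ a = a ∨ κ a = σ a := by
    intro a ha
    have e := hκ a ha
    rw [H34.Star.evAct_pair] at e
    rcases H34.Star.evPair_eq (fun e' => h.ne ha (κ.injective e').symm) e with ⟨h1, -⟩ | ⟨h1, -⟩
    · exact Or.inl h1
    · exact Or.inr h1
  intro a
  by_cases ha : a = f
  · subst ha
    refine Or.inl ?_
    by_contra hne
    rcases key _ hne with e | e
    · exact hne (κ.injective e)
    · have hne2 := h.ne_f hne
      rcases key _ hne2 with e' | e'
      · exact h.ne hne (κ.injective (e'.trans e.symm))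
      · rw [h.invol] at e'
        exact hne2 (κ.injective e')
  · exact key a ha

/-- Swaps fix the vector of each pair. -/
theorem evAct_pair_of_mem {N : ℕ} {σ : Perm (Fin N)} (hσ : ∀ a, σ (σ a) = a) {κ : Perm (Fin N)}
    (hκ : κ ∈ swapsOf σ hσ) (a : Fin N) : evAct κ (evPair a (σ a)) = evPair a (σ a) := by
  rw [H34.Star.evAct_pair]
  rcases hκ a with e | e
  · rcases hκ (σ a) with e' | e'
    · rw [e, e']
    · rw [hσ] at e'
      have : a = σ a := κ.injective (e.trans e'.symm)
      rw [← this, e]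
  · rcases hκ (σ a) with e' | e'
    · have : a = σ a := κ.injective (e.trans e'.symm)
      rw [e, e', ← this]
    · rw [hσ] at e'
      rw [e, e', H34.Star.evPair_comm]

end Cfsg.Agent.H29.Push
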