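import Cfsg.Agent.H34.Push.Basic
import Cfsg.Agent.H29.Push.SymPerm
import Mathlib

/-!
Symmetric components seen at once: the projections of their join to the symmetric groups and of `V` to the
even-weight modules.
-/

set_option autoImplicit false
set_option linter.style.haveILetI false
set_option linter.unusedSectionVars false

open scoped commutatorElement

namespace Cfsg.Agent.H29.Push

open Subgroup
open Cfsg.Agent.H34.Push (vee cee Comps SymRep SymCase)
open Cfsg.Agent.H34.Star (evW evAct evPair)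

universe u

variable {G : Type u} [Group G] [Finite G] {p : ℕ} [Fact p.Prime]

/-- The projections of the join of the components and of `V`. -/
structure Frame {r : ℕ} (E : Fin r → Subgroup G) (n : ℕ) (p : ℕ) where
  /-- The permutation induced in each component. -/
  π : Fin r → ↥(⨆ i, E i) →* Equiv.Perm (Fin (2 ^ n + 1))
  /-- The even-weight vector in each component. -/
  Φ : Fin r → ↥(vee p G) →* Multiplicative ↥(evW (2 ^ n + 1))
  surjπ : ∀ i τ, ∃ e : ↥(⨆ i, E i), (e : G) ∈ E i ∧ π i e = τ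
  other : ∀ i j, i ≠ j → ∀ e : ↥(⨆ i, E i), (e : G) ∈ E j → π i e = 1
  kerπ : ∀ e : ↥(⨆ i, E i), (∀ i, π i e = 1) ↔ (e : G) ∈ cee p G
  surjΦ : ∀ i w, ∃ v : ↥(vee p G), (v : G) ∈ ⁅vee p G, E i⁆ ∧ Φ i v = w
  kerΦ : ∀ i (v : ↥(vee p G)), Φ i v = 1 ↔ (v : G) ∈ centralizer (E i : Set G)
  act : ∀ i (e : ↥(⨆ i, E i)) (v w : ↥(vee p G)), (w : G) = (e : G) * (v : G) * (e : G)⁻¹ →
    Multiplicative.toAdd (Φ i w) = evAct (π i e) (Multiplicative.toAdd (Φ i v))
  swap : ∀ i (e : ↥(⨆ i, E i)) (v : ↥(vee p G)) a b, a ≠ b → (e : G) ∈ E i → π i e = Equiv.swap a b →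
    evAct (Equiv.swap a b) (Multiplicative.toAdd (Φ i v)) = Multiplicative.toAdd (Φ i v) →
      (e : G) * (v : G) * (e : G)⁻¹ = v
  transv : ∀ i (e : ↥(⨆ i, E i)) a b, a ≠ b → (e : G) ∈ E i → π i e = Equiv.swap a b →
    (vee p G ⊓ centralizer ({(e : G)} : Set G)).relIndex (vee p G) = 2

/-- `ρ` and `ψ` extend to `V` over the other components. -/
theorem exists_proj {T : Sylow p G} {r : ℕ} {E : Fin r → Subgroup G} {n : ℕ} (h : Comps T E) (i : Fin r)
    {ρ : ↥(E i) →* Equiv.Perm (Fin (2 ^ n + 1))}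
    {ψ : ↥⁅vee p G, E i⁆ →* Multiplicative (Fin (2 ^ n + 1) → ZMod 2)} (hr : SymRep p (E i) ρ ψ) :
    ∃ Φ : ↥(vee p G) →* Multiplicative ↥(evW (2 ^ n + 1)),
      (∀ w, ∃ v : ↥(vee p G), (v : G) ∈ ⁅vee p G, E i⁆ ∧ Φ v = w) ∧
      (∀ v : ↥(vee p G), Φ v = 1 ↔ (v : G) ∈ centralizer (E i : Set G)) ∧
      (∀ (e : ↥(E i)) (v w : ↥(vee p G)), (w : G) = (e : G) * (v : G) * (e : G)⁻¹ →
        Multiplicative.toAdd (Φ w) = evAct (ρ e) (Multiplicative.toAdd (Φ v))) ∧
      ∀ j, j ≠ i → ∀ g ∈ E j, ∀ (v w : ↥(vee p G)), (w : G) = g * (v : G) * g⁻¹ → Φ w = Φ v := by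
  haveI : (vee p G).Normal := H34.Push.vee_normal
  have hUV : ⁅vee p G, E i⁆ ≤ (vee p G) := commutator_le_left _ _
  have hVc : ∀ a ∈ (vee p G), ∀ b ∈ (vee p G), a * b = b * a := fun a ha b hb => by
    haveI := (H34.Push.vee_elementary (G := G) (p := p)).1
    exact setLike_mul_comm ha hb
  have hcr : ∀ j, j ≠ i → ⁅(vee p G), E j⁆ ≤ (centralizer (E i : Set G)) := fun j hj =>
    commutator_eq_bot_iff_le_centralizer.1 (h.cross j i hj)
  have hsplit : ∀ v : ↥(vee p G), ∃ u : ↥⁅vee p G, E i⁆, ((u : G))⁻¹ * (v : G) ∈ (centralizer (E i : Set G)) := by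
    intro v
    have hv : (v : G) ∈ ⁅vee p G, E i⁆ ⊔ ((vee p G) ⊓ (centralizer (E i : Set G))) := by
      have h2 : ((vee p G) ⊓ centralizer ((⨆ i, E i : Subgroup G) : Set G)) ⊔ (⨆ j, ⁅(vee p G), E j⁆) ≤ ⁅vee p G, E i⁆ ⊔ ((vee p G) ⊓ (centralizer (E i : Set G))) := by
        refine sup_le (le_sup_of_le_right (inf_le_inf_left _ (centralizer_le
          (SetLike.coe_subset_coe.2 (le_iSup E i))))) (iSup_le fun j => ?_)
        by_cases hj : j = i
        · subst hj; exact le_sup_left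
        · exact le_sup_of_le_right (le_inf (commutator_le_left _ _) (hcr j hj))
      exact h2 (h.dec.ge v.2)
    have hVU : ⁅vee p G, E i⁆ ⊔ ((vee p G) ⊓ (centralizer (E i : Set G))) ≤ (vee p G) := sup_le hUV inf_le_left
    obtain ⟨v, hvV⟩ := v
    show ∃ u : ↥⁅vee p G, E i⁆, (u : G)⁻¹ * v ∈ centralizer (E i : Set G)
    change v ∈ _ at hv
    clear hvV
    rw [sup_eq_closure] at hv
    induction hv using Subgroup.closure_induction with
    | mem x hx =>
      rcases hx with hx | hx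
      · exact ⟨⟨x, hx⟩, by simp⟩
      · exact ⟨1, by simpa using hx.2⟩
    | one => exact ⟨1, by simp⟩
    | mul x y hx hy hx' hy' =>
      obtain ⟨u, hu⟩ := hx'
      obtain ⟨u', hu'⟩ := hy'
      refine ⟨u * u', ?_⟩
      rw [← sup_eq_closure] at hx hy
      have hy2 : (u' : G)⁻¹ * y ∈ (vee p G) := (vee p G).mul_mem ((vee p G).inv_mem (hUV u'.2)) (hVU hy)
      have hx2 : (u : G)⁻¹ * x ∈ (vee p G) := (vee p G).mul_mem ((vee p G).inv_mem (hUV u.2)) (hVU hx)
      have e : ((u * u' : ↥⁅vee p G, E i⁆) : G)⁻¹ * (x * y) = ((u : G)⁻¹ * x) * ((u' : G)⁻¹ * y) := by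
        rw [Subgroup.coe_mul, mul_inv_rev]
        calc (u' : G)⁻¹ * (u : G)⁻¹ * (x * y) = ((u' : G)⁻¹ * ((u : G)⁻¹ * x)) * y := by group
          _ = (((u : G)⁻¹ * x) * (u' : G)⁻¹) * y := by rw [hVc _ ((vee p G).inv_mem (hUV u'.2)) _ hx2]
          _ = _ := by group
      rw [e]
      exact (centralizer (E i : Set G)).mul_mem hu hu'
    | inv x hx hx' =>
      obtain ⟨u, hu⟩ := hx'
      refine ⟨u⁻¹, ?_⟩
      rw [← sup_eq_closure] at hx
      have e : ((u⁻¹ : ↥⁅vee p G, E i⁆) : G)⁻¹ * x⁻¹ = ((u : G)⁻¹ * x)⁻¹ := by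
        rw [Subgroup.coe_inv, inv_inv, mul_inv_rev, inv_inv, hVc _ (hUV u.2) _ ((vee p G).inv_mem (hVU hx))]
      rw [e]
      exact (centralizer (E i : Set G)).inv_mem hu
  choose sel hsel using hsplit
  have hwd : ∀ u u' : ↥⁅vee p G, E i⁆, (u : G)⁻¹ * (u' : G) ∈ (centralizer (E i : Set G)) → ψ u = ψ u' := by
    intro u u' hz
    have : ψ (u⁻¹ * u') = 1 := (hr.kerψ _).2 (by simpa using hz)
    rw [map_mul, map_inv] at this
    exact inv_mul_eq_one.1 this
  have hval : ∀ (v : ↥(vee p G)) (u : ↥⁅vee p G, E i⁆), (u : G)⁻¹ * (v : G) ∈ (centralizer (E i : Set G)) → ψ (sel v) = ψ u := by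
    intro v u hu
    refine hwd _ _ ?_
    have := (centralizer (E i : Set G)).mul_mem (hsel v) ((centralizer (E i : Set G)).inv_mem hu)
    simpa [mul_assoc] using this
  let Φ : ↥(vee p G) →* Multiplicative ↥(evW (2 ^ n + 1)) := MonoidHom.mk'
    (fun v => Multiplicative.ofAdd ⟨Multiplicative.toAdd (ψ (sel v)), hr.even _⟩) fun v w => by
      refine congrArg Multiplicative.ofAdd (Subtype.ext ?_)
      show Multiplicative.toAdd (ψ (sel (v * w))) = _
      have hv2 : (sel v : G)⁻¹ * (v : G) ∈ (vee p G) := (vee p G).mul_mem ((vee p G).inv_mem (hUV (sel v).2)) v.2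
      rw [hval (v * w) (sel v * sel w) ?_, map_mul]
      · rfl
      · have e : ((sel v * sel w : ↥⁅vee p G, E i⁆) : G)⁻¹ * ((v * w : ↥(vee p G)) : G) =
            ((sel v : G)⁻¹ * v) * ((sel w : G)⁻¹ * w) := by
          rw [Subgroup.coe_mul, Subgroup.coe_mul, mul_inv_rev]
          calc (sel w : G)⁻¹ * (sel v : G)⁻¹ * ((v : G) * w) = ((sel w : G)⁻¹ * ((sel v : G)⁻¹ * v)) * w := by group
            _ = (((sel v : G)⁻¹ * v) * (sel w : G)⁻¹) * w := by rw [hVc _ ((vee p G).inv_mem (hUV (sel w).2)) _ hv2]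
            _ = _ := by group
        rw [e]
        exact (centralizer (E i : Set G)).mul_mem (hsel v) (hsel w)
  have hΦ : ∀ v : ↥(vee p G), (Multiplicative.toAdd (Φ v)).1 = Multiplicative.toAdd (ψ (sel v)) := fun v => rfl
  refine ⟨Φ, fun w => ?_, fun v => ?_, fun e v w hw => ?_, fun j hj g hg v w hw => ?_⟩
  · obtain ⟨u, hu⟩ := hr.onto (Multiplicative.toAdd w).1 (Multiplicative.toAdd w).2
    refine ⟨⟨u, hUV u.2⟩, u.2, ?_⟩
    refine Multiplicative.toAdd.injective (Subtype.ext ?_)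
    rw [hΦ, hval _ u (by simp), hu]
  · have hiff : Φ v = 1 ↔ ψ (sel v) = 1 := by
      constructor
      · intro e
        refine Multiplicative.toAdd.injective ?_
        rw [← hΦ, e]; rfl
      · intro e
        refine Multiplicative.toAdd.injective (Subtype.ext ?_)
        rw [hΦ, e]; rfl
    rw [hiff, hr.kerψ]
    constructor
    · intro hs
      have := (centralizer (E i : Set G)).mul_mem hs (hsel v)
      simpa using this
    · intro hv
      have := (centralizer (E i : Set G)).mul_mem hv ((centralizer (E i : Set G)).inv_mem (hsel v))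
      simpa using this
  · have heU : (e : G) * (sel v : G) * (e : G)⁻¹ ∈ ⁅vee p G, E i⁆ := by
      have hn : E i ≤ normalizer ((⁅vee p G, E i⁆ : Subgroup G) : Set G) := normalizer_commutator_ge_right (vee p G) (E i)
      exact (mem_normalizer_iff.1 (hn e.2) _).1 (sel v).2
    refine Subtype.ext (funext fun a => ?_)
    rw [hΦ, hval w ⟨_, heU⟩ ?_]
    · rw [hr.act e (sel v) ⟨_, heU⟩ rfl a]
      rfl
    · have hz : (sel v : G)⁻¹ * v ∈ (centralizer (E i : Set G)) := hsel v
      have h1 : (e : G) * ((sel v : G)⁻¹ * v) * (e : G)⁻¹ = (sel v : G)⁻¹ * v := by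
        rw [mem_centralizer_iff.1 hz e e.2, mul_inv_cancel_right]
      show ((e : G) * (sel v : G) * (e : G)⁻¹)⁻¹ * (w : G) ∈ (centralizer (E i : Set G))
      rw [hw, show ((e : G) * (sel v : G) * (e : G)⁻¹)⁻¹ * ((e : G) * (v : G) * (e : G)⁻¹) =
        (e : G) * ((sel v : G)⁻¹ * v) * (e : G)⁻¹ by group, h1]
      exact hz
  · have hgN : g ∈ normalizer (E i : Set G) := by
      refine H74.mem_normalizer_of_conj_mem fun x hx => ?_
      have h1 : ⁅g, x⁆ ∈ E i := h.cent_le i (h.comm j i hj (commutator_mem_commutator hg hx))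
      have h2 := mul_mem h1 hx
      rw [commutatorElement_def, inv_mul_cancel_right] at h2
      exact h2
    have hgU : g * (sel v : G) * g⁻¹ = sel v := by
      have := commutator_eq_bot_iff_le_centralizer.1 (h.cross i j (Ne.symm hj)) (sel v).2
      rw [mem_centralizer_iff.1 this g hg, mul_inv_cancel_right]
    refine Multiplicative.toAdd.injective (Subtype.ext ?_)
    rw [hΦ, hΦ, hval w (sel v) ?_]
    rw [hw]
    have hz : g * ((sel v : G)⁻¹ * v) * g⁻¹ ∈ (centralizer (E i : Set G)) :=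
      (mem_normalizer_iff.1 (H74.normalizer_le_normalizer_centralizer hgN) _).1 (hsel v)
    rw [show g * ((sel v : G)⁻¹ * v) * g⁻¹ = (g * (sel v : G) * g⁻¹)⁻¹ * (g * (v : G) * g⁻¹) by group, hgU] at hz
    exact hz

/-- A component is normalised by the join of all. -/
theorem iSup_le_normalizer {T : Sylow p G} {r : ℕ} {E : Fin r → Subgroup G} (h : Comps T E) (i : Fin r) :
    (⨆ j, E j) ≤ normalizer (E i : Set G) := by
  refine iSup_le fun j => ?_
  by_cases hj : j = i
  · subst hj; exact le_normalizer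
  · refine fun g hg => H74.mem_normalizer_of_conj_mem fun x hx => ?_
    have h1 : ⁅g, x⁆ ∈ E i := h.cent_le i (h.comm j i hj (commutator_mem_commutator hg hx))
    have h2 := mul_mem h1 hx
    rw [commutatorElement_def, inv_mul_cancel_right] at h2
    exact h2

/-- The frame, agreeing with a given representation of one component. -/
theorem exists_frame {T : Sylow p G} {r : ℕ} {E : Fin r → Subgroup G} {n : ℕ} (h : SymCase T E n) (i₀ : Fin r)
    {ρ₀ : ↥(E i₀) →* Equiv.Perm (Fin (2 ^ n + 1))}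
    {ψ₀ : ↥⁅vee p G, E i₀⁆ →* Multiplicative (Fin (2 ^ n + 1) → ZMod 2)} (hr₀ : SymRep p (E i₀) ρ₀ ψ₀) :
    ∃ F : Frame E n p, ∀ (e : ↥(E i₀)), F.π i₀ ⟨e, le_iSup E i₀ e.2⟩ = ρ₀ e := by
  classical
  haveI : (vee p G).Normal := H34.Push.vee_normal
  haveI : (cee p G).Normal := H34.Push.cee_normal
  have hn3 := three_le_degree h.pos_n
  have hch : ∀ i, ∃ ρ ψ, SymRep p (E i) (m := 2 ^ n + 1) ρ ψ ∧
      ∀ (e₀ : ↥(E i₀)) (e : ↥(E i)), i = i₀ → (e : G) = e₀ → ρ e = ρ₀ e₀ := by
    intro i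
    by_cases hi : i = i₀
    · subst hi
      exact ⟨ρ₀, ψ₀, hr₀, fun e₀ e _ he => by rw [Subtype.ext he]⟩
    · obtain ⟨ρ, ψ, hr⟩ := h.rep i
      exact ⟨ρ, ψ, hr, fun _ _ e => absurd e hi⟩
  choose ρ ψ hr hρ₀ using hch
  choose Φ hsurj hker hact hoth using fun i => exists_proj h.toComps i (hr i)
  set EE := ⨆ i, E i with hEE
  have hEi : ∀ i, E i ≤ EE := le_iSup E
  let Acts : Fin r → G → Equiv.Perm (Fin (2 ^ n + 1)) → Prop := fun i g τ =>
    ∀ v w : ↥(vee p G), (w : G) = g * (v : G) * g⁻¹ →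
      Multiplicative.toAdd (Φ i w) = evAct τ (Multiplicative.toAdd (Φ i v))
  have hex : ∀ i, ∀ g ∈ EE, ∃ τ, Acts i g τ := by
    intro i g hg
    induction hg using Subgroup.iSup_induction' with
    | hp j x hx =>
      by_cases hj : j = i
      · subst hj; exact ⟨ρ j ⟨x, hx⟩, fun v w hw => hact j ⟨x, hx⟩ v w hw⟩
      · exact ⟨1, fun v w hw => by rw [hoth i j hj x hx v w hw, H34.Star.evAct_one]⟩
    | h1 => exact ⟨1, fun v w hw => by
        rw [show w = v from Subtype.ext (by simpa using hw), H34.Star.evAct_one]⟩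
    | hmul x y hx hy hx' hy' =>
      obtain ⟨σ, hσ⟩ := hx'
      obtain ⟨τ, hτ⟩ := hy'
      refine ⟨σ * τ, fun v w hw => ?_⟩
      let u : ↥(vee p G) := ⟨y * v * y⁻¹, Normal.conj_mem inferInstance _ v.2 y⟩
      rw [hσ u w (by rw [hw]; simp [u, mul_assoc]), hτ v u rfl, H34.Star.evAct_mul]
  choose π₀ hπ₀ using fun i (g : ↥EE) => hex i g g.2
  have huniq : ∀ i g σ τ, Acts i g σ → Acts i g τ → σ = τ := by
    intro i g σ τ hσ hτ
    refine (inv_mul_eq_one.1 (H34.Star.evAct_faithful hn3 (π := τ⁻¹ * σ) fun x => ?_)).symm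
    obtain ⟨v, -, hv⟩ := hsurj i (Multiplicative.ofAdd x)
    let w : ↥(vee p G) := ⟨g * v * g⁻¹, Normal.conj_mem inferInstance _ v.2 g⟩
    have e := (hσ v w rfl).symm.trans (hτ v w rfl)
    rw [hv, toAdd_ofAdd] at e
    rw [H34.Star.evAct_mul, e, ← H34.Star.evAct_mul, inv_mul_cancel, H34.Star.evAct_one]
  let π : Fin r → ↥EE →* Equiv.Perm (Fin (2 ^ n + 1)) := fun i => MonoidHom.mk' (π₀ i) fun x y =>
    huniq i _ _ _ (hπ₀ i (x * y)) fun v w hw => by
      let u : ↥(vee p G) := ⟨y * v * (y : G)⁻¹, Normal.conj_mem inferInstance _ v.2 _⟩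
      rw [hπ₀ i x u w (by rw [hw]; simp [u, mul_assoc]), hπ₀ i y v u rfl, H34.Star.evAct_mul]
  have hπ : ∀ i (g : ↥EE) τ, Acts i g τ → π i g = τ := fun i g τ hτ => huniq i _ _ _ (hπ₀ i g) hτ
  have hself : ∀ i (e : ↥(E i)), π i ⟨e, hEi i e.2⟩ = ρ i e := fun i e =>
    hπ i _ _ fun v w hw => hact i e v w hw
  have hother : ∀ i j, i ≠ j → ∀ e : ↥EE, (e : G) ∈ E j → π i e = 1 := fun i j hij e he =>
    hπ i _ _ fun v w hw => by rw [hoth i j (Ne.symm hij) e he v w hw, H34.Star.evAct_one]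
  have hcee : ∀ e : ↥EE, (e : G) ∈ cee p G → ∀ i, π i e = 1 := fun e he i =>
    hπ i _ _ fun v w hw => by
      rw [H34.Star.evAct_one, show w = v from Subtype.ext (by
        rw [hw, ← mem_centralizer_iff.1 he v v.2, mul_inv_cancel_right])]
  have hkerall : ∀ e : ↥EE, (∀ i, π i e = 1) → (e : G) ∈ cee p G := by
    have key : ∀ s : Finset (Fin r), ∀ g ∈ (⨆ i ∈ s, E i) ⊔ cee p G, ∀ hg : g ∈ EE,
        (∀ i ∈ s, π i ⟨g, hg⟩ = 1) → g ∈ cee p G := by
      intro s
      induction s using Finset.induction with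
      | empty => intro g hg _ _; simpa using hg
      | @insert j s hj ih =>
        intro g hg hgE hπ1
        have hle : (⨆ i ∈ s, E i) ⊔ cee p G ≤ normalizer (E j : Set G) :=
          sup_le ((iSup₂_le fun i _ => hEi i).trans (iSup_le_normalizer h.toComps j))
            (((h.cent_le j).trans (hEi j)).trans (iSup_le_normalizer h.toComps j))
        rw [Finset.iSup_insert, sup_assoc, sup_comm, ← SetLike.mem_coe,
          coe_mul_of_left_le_normalizer_right _ _ hle] at hg
        obtain ⟨x, hx, e, he, rfl⟩ := hg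
        have hxE : x ∈ EE := sup_le (iSup₂_le fun i _ => hEi i) ((h.cent_le j).trans (hEi j)) hx
        have hsplit : ∀ i, π i ⟨x * e, hgE⟩ = π i ⟨x, hxE⟩ * π i ⟨e, hEi j he⟩ := fun i => by
          rw [← map_mul]; rfl
        have hrest : ∀ i ∈ s, π i ⟨x, hxE⟩ = 1 := fun i hi => by
          have := hπ1 i (Finset.mem_insert_of_mem hi)
          rwa [hsplit, hother i j (fun e' => hj (e' ▸ hi)) ⟨e, hEi j he⟩ he, mul_one] at this
        have hxC := ih x hx hxE hrest
        have := hπ1 j (Finset.mem_insert_self j s)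
        rw [hsplit, hcee ⟨x, hxE⟩ hxC j, one_mul, hself j ⟨e, he⟩] at this
        exact mul_mem hxC (((hr j).ker ⟨e, he⟩).1 this)
    intro e he
    refine key Finset.univ e (mem_sup_left ?_) e.2 fun i _ => he i
    have : EE ≤ ⨆ i ∈ (Finset.univ : Finset (Fin r)), E i := iSup_le fun i => le_iSup₂_of_le i (Finset.mem_univ i) le_rfl
    exact this e.2
  refine ⟨⟨π, Φ, fun i τ => ?_, hother, fun e => ⟨hkerall e, hcee e⟩, hsurj, hker,
    fun i e v w hw => hπ₀ i e v w hw, fun i e v a b hab he hπe hfix => ?_,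
    fun i e a b hab he hπe => (hr i).transv ⟨e, he⟩ a b hab ((hself i ⟨e, he⟩).symm.trans hπe)⟩, fun e => ?_⟩
  · obtain ⟨e, rfl⟩ := (hr i).surj τ
    exact ⟨⟨e, hEi i e.2⟩, e.2, hself i e⟩
  · have hρ : ρ i ⟨e, he⟩ = Equiv.swap a b := (hself i ⟨e, he⟩).symm.trans hπe
    have htr := (hr i).transv ⟨e, he⟩ a b hab hρ
    set K := (vee p G ⊓ centralizer ({(e : G)} : Set G)).subgroupOf (vee p G) with hK
    let Fx : Subgroup ↥(vee p G) :=
      { carrier := {x | evAct (Equiv.swap a b) (Multiplicative.toAdd (Φ i x)) = Multiplicative.toAdd (Φ i x)}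
        mul_mem' := fun {x y} hx hy => by
          show evAct _ (Multiplicative.toAdd (Φ i (x * y))) = Multiplicative.toAdd (Φ i (x * y))
          rw [map_mul]
          exact congrArg₂ (· + ·) hx hy
        one_mem' := by
          show evAct _ (Multiplicative.toAdd (Φ i 1)) = Multiplicative.toAdd (Φ i 1)
          rw [map_one]; rfl
        inv_mem' := fun {x} hx => by
          show evAct _ (Multiplicative.toAdd (Φ i x⁻¹)) = Multiplicative.toAdd (Φ i x⁻¹)
          rw [map_inv]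
          exact congrArg (fun t => -t) hx }
    have hKle : K ≤ Fx := by
      intro x hx
      have hc : (x : G) * e = e * x := mem_centralizer_singleton_iff.1 hx.2
      have := hπ₀ i e x x (by rw [← hc, mul_inv_cancel_right])
      show evAct _ _ = _
      rw [← hπe]
      exact this.symm
    have hFx : Fx ≠ ⊤ := by
      intro htop
      obtain ⟨c, hc⟩ : ∃ c : Fin (2 ^ n + 1), c ∉ ({a, b} : Finset _) := by
        by_contra hall
        push Not at hall
        have h1 := Finset.card_le_card (show Finset.univ ⊆ ({a, b} : Finset (Fin (2 ^ n + 1))) from fun x _ => hall x)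
        rw [Finset.card_univ, Fintype.card_fin, Finset.card_pair hab] at h1
        omega
      simp only [Finset.mem_insert, Finset.mem_singleton, not_or] at hc
      obtain ⟨x, -, hx⟩ := hsurj i (Multiplicative.ofAdd (evPair a c))
      have h1 : x ∈ Fx := htop ▸ mem_top x
      change evAct _ (Multiplicative.toAdd (Φ i x)) = Multiplicative.toAdd (Φ i x) at h1
      rw [hx, toAdd_ofAdd, H34.Star.evAct_pair, Equiv.swap_apply_left,
        Equiv.swap_apply_of_ne_of_ne hc.1 hc.2] at h1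
      rcases H34.Star.evPair_eq (Ne.symm hc.2) h1 with ⟨h2, -⟩ | ⟨-, h2⟩
      · exact hab h2.symm
      · exact hc.1 h2
    have hKi : K.index = 2 := htr
    have hdvd : Fx.index ∣ 2 := hKi ▸ index_dvd_of_le hKle
    have hFi : Fx.index = 2 :=
      ((Nat.dvd_prime Nat.prime_two).1 hdvd).resolve_left fun e' => hFx (index_eq_one.1 e')
    have heq : K = Fx := by
      refine le_antisymm hKle ?_
      have := relIndex_mul_index hKle
      rw [hKi, hFi] at this
      exact relIndex_eq_one.1 (by omega)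
    have hvK : v ∈ K := heq.ge hfix
    have hc : (v : G) * e = e * v := mem_centralizer_singleton_iff.1 hvK.2
    rw [← hc, mul_inv_cancel_right]
  · exact (hself i₀ e).trans (hρ₀ i₀ e e rfl rfl)

end Cfsg.Agent.H29.Push
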