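import Cfsg.Agent.H29.Push.SymBaumann
import Mathlib

/-!
In symmetric components `B(T)` has the image of all swaps of one pairing; conjugates of few of its involutions
generate the components.
-/

set_option autoImplicit false
set_option linter.style.haveILetI false
set_option linter.unusedSectionVars false

open scoped commutatorElement

namespace Cfsg.Agent.H29.Push

open Subgroup
open Cfsg.Agent.H34.Push (vee cee Comps SymRep SymCase SymLeaves SymImages GenData Ctx)
open Cfsg.Agent.H34.Star (evW evAct evPair)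

universe u

variable {G : Type u} [Group G] [Finite G] {p : ℕ} [Fact p.Prime] {T : Sylow p G} {M : Subgroup G}
  {r : ℕ} {E : Fin r → Subgroup G} {n : ℕ}

theorem thompson_le_sup_cee (T : Sylow p G) :
    Cfsg.thompsonSubgroupOf p (T : Subgroup G) ≤
      Cfsg.baumannSubgroupOf p (T : Subgroup G) ⊔ cee p G :=
  le_sup_of_le_left (H51.thompsonSubgroupOf_le_baumann _)

/-- `B(T) C` consists of the elements moving points inside their pairs. -/
theorem baumann_sup_cee (hc : Ctx T M) (h : SymCase T E n) {F : Frame E n p} (P : Pairs F (T : Subgroup G)) :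
    Cfsg.baumannSubgroupOf p (T : Subgroup G) ⊔ cee p G = swapGroup P := by
  refine le_antisymm (sup_le (baumann_le_swapGroup hc h P) (cee_le_swapGroup h.toComps P)) ?_
  refine (le_iSup_inf_sup P (fun i => Cfsg.thompsonSubgroupOf p (T : Subgroup G) ⊓ E i) (fun i => inf_le_right)
    fun i a ha => ?_).trans (sup_le (iSup_le fun i => inf_le_left.trans (thompson_le_sup_cee T)) le_sup_right)
  obtain ⟨y, hy, hyE, -, hπ⟩ := (thompson_pairs hc h P).2 i a ha
  exact ⟨y, ⟨hy, hyE⟩, hπ⟩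

theorem symImages (hc : Ctx T M) (h : SymCase T E n) : SymImages T E n := by
  classical
  refine ⟨fun i ρ ψ hr => ?_, ?_⟩
  · obtain ⟨F, hF⟩ := exists_frame h i hr
    obtain ⟨P⟩ := exists_pairs h F
    have hW := baumann_sup_cee hc h P
    refine ⟨P.σ i, P.f i, (P.pair i).invol, (P.pair i).fixed, fun e => ?_, fun e he => ?_,
      fun a b ha hb => ?_, fun a ha => ?_⟩
    · rw [hW, mem_swapGroup]
      constructor
      · rintro ⟨hg, hall⟩
        have := hall i
        rw [show (⟨(e : G), hg⟩ : ↥(⨆ i, E i)) = ⟨e, le_iSup E i e.2⟩ from rfl, hF] at this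
        exact this
      · intro he
        refine ⟨le_iSup E i e.2, fun j => ?_⟩
        by_cases hj : j = i
        · subst hj; rw [hF]; exact he
        · rw [F.other j i hj _ e.2]; exact one_mem _
    · rw [← hF]; exact P.fix i _ he
    · obtain ⟨e, heT, heE, hab⟩ := P.trans i a b ha hb
      exact ⟨⟨e, heE⟩, heT, by rw [← hF]; exact hab⟩
    · obtain ⟨y, hy, hyE, hyy, hπ⟩ := (thompson_pairs hc h P).2 i a ha
      exact ⟨⟨y, hyE⟩, H51.thompsonSubgroupOf_le_baumann _ hy, Subtype.ext (congrArg Subtype.val hyy :),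
        by rw [← hF]; exact hπ⟩
  · obtain ⟨ρ, ψ, hr⟩ := h.rep ⟨0, h.pos⟩
    obtain ⟨F, -⟩ := exists_frame h _ hr
    obtain ⟨P⟩ := exists_pairs h F
    refine le_antisymm (iSup_le fun i => inf_le_left) ?_
    conv_lhs => rw [baumann_sup_cee hc h P]
    refine (le_iSup_inf_sup P (fun i => (Cfsg.baumannSubgroupOf p (T : Subgroup G) ⊔ cee p G) ⊓ E i)
      (fun i => inf_le_right) fun i a ha => ?_).trans
      (sup_le le_rfl (le_iSup_of_le ⟨0, h.pos⟩ (le_inf le_sup_right (h.cent_le _))))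
    obtain ⟨y, hy, hyE, -, hπ⟩ := (thompson_pairs hc h P).2 i a ha
    exact ⟨y, ⟨thompson_le_sup_cee T hy, hyE⟩, hπ⟩

theorem le_sup_core (hc : Ctx T M) {B K : Subgroup G} (hB : B ≤ (T : Subgroup G)) (hK : K ≤ (T : Subgroup G))
    (hle : B ≤ K ⊔ cee p G) : B ≤ K ⊔ Cfsg.pCore p G := by
  haveI : (cee p G).Normal := H34.Push.cee_normal
  intro b hb
  have h1 := hle hb
  rw [← SetLike.mem_coe, mul_normal] at h1
  obtain ⟨k, hk, c, hcc, e⟩ := h1
  have hcT : c ∈ (T : Subgroup G) := by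
    rw [show c = k⁻¹ * b by rw [← e]; simp]
    exact mul_mem (inv_mem (hK hk)) (hB hb)
  rw [show b = k * c from e.symm]
  exact mul_mem (mem_sup_left hk) (mem_sup_right (hc.inf_cee.le ⟨hcT, hcc⟩))

theorem genData (hc : Ctx T M) (h : SymCase T E n) : GenData T E := by
  classical
  haveI : (vee p G).Normal := H34.Push.vee_normal
  obtain ⟨ρ, ψ, hr⟩ := h.rep ⟨0, h.pos⟩
  obtain ⟨F, -⟩ := exists_frame h _ hr
  obtain ⟨P⟩ := exists_pairs h F
  have hBW := baumann_le_swapGroup hc h P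
  have hlift := (thompson_pairs hc h P).2
  set B := Cfsg.baumannSubgroupOf p (T : Subgroup G) with hB
  have hJB : Cfsg.thompsonSubgroupOf p (T : Subgroup G) ≤ B := H51.thompsonSubgroupOf_le_baumann _
  have hBT : B ≤ (T : Subgroup G) := inf_le_left
  refine ⟨hBW.trans (swapGroup_le P), le_sup_core hc hBT (hJB.trans hBT) (hBW.trans ?_), ?_⟩
  · refine (le_iSup_inf_sup P (fun i => Cfsg.thompsonSubgroupOf p (T : Subgroup G) ⊓ E i)
      (fun i => inf_le_right) fun i a ha => ?_).trans (sup_le_sup_right (iSup_le fun i => inf_le_left) _)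
    obtain ⟨y, hy, hyE, -, hπ⟩ := hlift i a ha
    exact ⟨y, ⟨hy, hyE⟩, hπ⟩
  -- the edges: pairs, and the fixed point with one point of each pair
  let I := Σ i : Fin r, {a : Fin (2 ^ n + 1) // a ≠ P.f i}
  have hedge : ∀ q : I, ∃ g : G, ∃ y : ↥(⨆ i, E i), (y : G) ∈ E q.1 ∧
      g⁻¹ * (y : G) * g ∈ B ∧ (P.σ q.1 q.2.1 < q.2.1 → g = 1) ∧
      F.π q.1 y = if P.σ q.1 q.2.1 < q.2.1 then Equiv.swap q.2.1 (P.σ q.1 q.2.1)
        else Equiv.swap q.2.1 (P.f q.1) := by
    rintro ⟨i, a, ha⟩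
    obtain ⟨y, hy, hyE, -, hπ⟩ := hlift i a ha
    by_cases hlt : P.σ i a < a
    · exact ⟨1, y, hyE, by simpa using hJB hy, fun _ => rfl, by rw [if_pos hlt]; exact hπ⟩
    · obtain ⟨e, he, heπ⟩ := F.surjπ i (Equiv.swap (P.σ i a) (P.f i))
      refine ⟨e, e * y * e⁻¹, mul_mem (mul_mem he hyE) (inv_mem he), ?_, fun h' => absurd h' hlt, ?_⟩
      · simpa [mul_assoc] using hJB hy
      · rw [if_neg hlt, map_mul, map_mul, map_inv, heπ, hπ, ← Equiv.swap_apply_apply,
          Equiv.swap_apply_of_ne_of_ne ((P.pair i).ne ha).symm ha, Equiv.swap_apply_left]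
  choose g y hyE hyB hg1 hyπ using hedge
  let X : I → Subgroup G := fun q => zpowers (y q : G)
  let eI : Fin (Fintype.card I) ≃ I := (Fintype.equivFin I).symm
  have hyne : ∀ q : I, ∃ a b, a ≠ b ∧ F.π q.1 (y q) = Equiv.swap a b := fun q => by
    rw [hyπ q]
    split_ifs
    · exact ⟨_, _, ((P.pair q.1).ne q.2.2).symm, rfl⟩
    · exact ⟨_, _, q.2.2, rfl⟩
  have hXE : ∀ q, X q ≤ ⨆ i, E i := fun q => zpowers_le.2 (y q).2
  have hsupX : (⨆ j, X (eI j)) = ⨆ q, X q := eI.iSup_congr fun _ => rfl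
  refine ⟨Fintype.card I, fun j => X (eI j), fun j => g (eI j), fun j => ?_, ?_, ?_, ?_⟩
  · exact zpowers_le.2 ⟨_, hyB (eI j), by simp [mul_assoc]⟩
  · rw [hsupX]
    refine le_sup_core hc hBT (inf_le_left.trans hBT) (hBW.trans ?_)
    refine (le_iSup_inf_sup P (fun i => (B ⊓ ⨆ q, X q) ⊓ E i) (fun i => inf_le_right) fun i a ha => ?_).trans
      (sup_le_sup_right (iSup_le fun i => inf_le_left) _)
    have key : ∀ b (hb : b ≠ P.f i), P.σ i b < b → ∃ e : ↥(⨆ i, E i), (e : G) ∈ (B ⊓ ⨆ q, X q) ⊓ E i ∧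
        F.π i e = Equiv.swap b (P.σ i b) := by
      intro b hb hlt
      refine ⟨y ⟨i, b, hb⟩, ⟨⟨?_, le_iSup X _ (mem_zpowers _)⟩, hyE ⟨i, b, hb⟩⟩, ?_⟩
      · have := hyB ⟨i, b, hb⟩
        rw [hg1 ⟨i, b, hb⟩ hlt] at this
        simpa using this
      · rw [hyπ ⟨i, b, hb⟩, if_pos hlt]
    by_cases hlt : P.σ i a < a
    · exact key a ha hlt
    · obtain ⟨e, he, hπ⟩ := key (P.σ i a) ((P.pair i).ne_f ha) (by
        rw [(P.pair i).invol]
        exact lt_of_le_of_ne (not_lt.1 hlt) ((P.pair i).ne ha).symm)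
      exact ⟨e, he, by rw [hπ, (P.pair i).invol, Equiv.swap_comm]⟩
  · rw [hsupX]
    refine le_antisymm (sup_le (iSup_le hXE) (le_iSup_of_le ⟨0, h.pos⟩ (h.cent_le _))) (iSup_le fun i => ?_)
    set H := ((⨆ q, X q) ⊔ cee p G) ⊓ E i with hH
    have himg : (H.subgroupOf (⨆ i, E i)).map (F.π i) = ⊤ := by
      have hy' : ∀ b (hb : b ≠ P.f i), F.π i (y ⟨i, b, hb⟩) ∈ (H.subgroupOf (⨆ i, E i)).map (F.π i) :=
        fun b hb => mem_map_of_mem _ ⟨mem_sup_left (le_iSup X _ (mem_zpowers _)), hyE ⟨i, b, hb⟩⟩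
      refine eq_top_of_swaps (f := P.f i) fun a ha => ?_
      by_cases hlt : P.σ i a < a
      · have hb := (P.pair i).ne_f ha
        have h1 := hy' a ha
        have h2 := hy' _ hb
        rw [hyπ ⟨i, a, ha⟩, if_pos hlt] at h1
        rw [hyπ ⟨i, _, hb⟩, if_neg (by rw [(P.pair i).invol]; exact lt_asymm hlt)] at h2
        have := mul_mem (mul_mem h1 h2) (inv_mem h1)
        rw [← Equiv.swap_apply_apply, Equiv.swap_apply_right,
          Equiv.swap_apply_of_ne_of_ne ha.symm hb.symm] at this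
        rwa [Equiv.swap_comm]
      · have h1 := hy' a ha
        rw [hyπ ⟨i, a, ha⟩, if_neg hlt] at h1
        rwa [Equiv.swap_comm]
    intro e he
    obtain ⟨x, hx, hxπ⟩ := (himg.ge (mem_top (F.π i ⟨e, le_iSup E i he⟩)) : _ ∈ _)
    have hc' : ((x⁻¹ * ⟨e, le_iSup E i he⟩ : ↥(⨆ i, E i)) : G) ∈ cee p G := (F.kerπ _).1 fun j => by
      rw [map_mul, map_inv]
      by_cases hj : j = i
      · subst hj; rw [hxπ, inv_mul_cancel]
      · rw [F.other j i hj x hx.2, F.other j i hj _ he]; simp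
    rw [coe_mul, coe_inv] at hc'
    rw [show e = (x : G) * ((x : G)⁻¹ * e) by group]
    exact mul_mem hx.1 (mem_sup_right hc')
  · have hterm : ∀ q, (vee p G ⊓ centralizer (X q : Set G)).relIndex (vee p G) = 2 := fun q => by
      obtain ⟨a, b, hab, hπ⟩ := hyne q
      have hcz : centralizer (X q : Set G) = centralizer ({(y q : G)} : Set G) := by
        show centralizer ((zpowers (y q : G) : Subgroup G) : Set G) = _
        rw [zpowers_eq_closure, centralizer_closure]
      rw [hcz]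
      exact F.transv q.1 (y q) a b hab (hyE q) hπ
    rw [Finset.prod_congr rfl fun j _ => hterm (eI j), Finset.prod_const, Finset.card_univ, Fintype.card_fin]
    obtain ⟨Φ, hΦs, hΦv⟩ := exists_Φall h.toComps F
    have hker : Φ.ker = (vee p G ⊓ centralizer ((⨆ i, E i : Subgroup G) : Set G)).subgroupOf (vee p G) := by
      ext v
      rw [MonoidHom.mem_ker, mem_subgroupOf]
      constructor
      · intro hv
        refine ⟨v.2, le_centralizer_iff.1 (iSup_le fun i => le_centralizer_iff.1 (zpowers_le.2 ?_))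
          (mem_zpowers _)⟩
        exact (F.kerΦ i v).1 (by rw [← hΦv, hv]; rfl)
      · intro hv
        funext i
        rw [hΦv]
        exact (F.kerΦ i v).2 (centralizer_le (SetLike.coe_subset_coe.2 (le_iSup E i)) hv.2)
    have hI : Fintype.card I = r * 2 ^ n := by
      rw [Fintype.card_sigma]
      simp [Fintype.card_subtype_compl, Fintype.card_fin]
    rw [Subgroup.relIndex, ← hker, index_ker, MonoidHom.range_eq_top_of_surjective Φ hΦs, card_top,
      Nat.card_pi, Finset.prod_const, Finset.card_univ, Fintype.card_fin, hI, mul_comm r, pow_mul]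
    exact le_of_eq (congrArg (· ^ r) (card_evW_two_pow h.pos_n).symm)

end Cfsg.Agent.H29.Push
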