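import Cfsg.Agent.H29.Push.SymFrame
import Cfsg.Agent.H94.NormalSubgroupSystem
import Mathlib

/-!
In symmetric components the largest elementary abelian subgroups of a Sylow 2-subgroup act as all swaps of some
pairs of one pairing, and the Thompson subgroup as all swaps.
-/

set_option autoImplicit false
set_option linter.style.haveILetI false
set_option linter.unusedSectionVars false

open scoped commutatorElement

namespace Cfsg.Agent.H29.Push

open Subgroup
open Cfsg.Agent.H34.Push (vee cee Comps SymRep SymCase Ctx)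
open Cfsg.Agent.H34.Star (evW evAct evPair)

universe u

variable {G : Type u} [Group G] [Finite G] {p : ℕ} [Fact p.Prime] {T : Sylow p G} {M : Subgroup G}
  {r : ℕ} {E : Fin r → Subgroup G} {n : ℕ}

/-- One pairing in each component, seen by the Sylow subgroup. -/
structure Pairs (F : Frame E n p) (T : Subgroup G) where
  /-- The pairing. -/
  σ : Fin r → Equiv.Perm (Fin (2 ^ n + 1))
  /-- Its fixed point. -/
  f : Fin r → Fin (2 ^ n + 1)
  pair : ∀ i, Pairing (σ i) (f i)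
  fix : ∀ i (e : ↥(⨆ i, E i)), (e : G) ∈ T → F.π i e (f i) = f i
  trans : ∀ i a b, a ≠ f i → b ≠ f i →
    ∃ e : ↥(⨆ i, E i), (e : G) ∈ T ∧ (e : G) ∈ E i ∧ F.π i e a = b
  transp : ∀ i (e : ↥(⨆ i, E i)) a b, (e : G) ∈ T → a ≠ b → F.π i e = Equiv.swap a b → b = σ i a

theorem iSup_normal (h : Comps T E) : (⨆ i, E i : Subgroup G).Normal := by
  rw [h.sup]
  haveI : (Cfsg.thompsonSubgroup p G).Normal :=
    haveI := H34.thompsonSubgroup_characteristic (p := p) (G := G); inferInstance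
  haveI : (cee p G).Normal := H34.Push.cee_normal
  infer_instance

/-- The pairings exist. -/
theorem exists_pairs (h : SymCase T E n) (F : Frame E n p) : Nonempty (Pairs F (T : Subgroup G)) := by
  classical
  obtain rfl := h.two
  set EE := ⨆ i, E i with hEE
  haveI : EE.Normal := iSup_normal h.toComps
  obtain ⟨R, hR⟩ := H94.exists_sylow_inf_normal T EE
  have hdata : ∀ i, ∃ σ f, Pairing σ f ∧ (∀ e : ↥EE, (e : G) ∈ (T : Subgroup G) → F.π i e f = f) ∧
      (∀ a b, a ≠ f → b ≠ f → ∃ e : ↥EE, (e : G) ∈ (T : Subgroup G) ∧ (e : G) ∈ E i ∧ F.π i e a = b) ∧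
      ∀ (e : ↥EE) a b, (e : G) ∈ (T : Subgroup G) → a ≠ b → F.π i e = Equiv.swap a b → b = σ a := by
    intro i
    set H := (E i).subgroupOf EE with hH
    haveI : H.Normal := normal_subgroupOf_of_le_normalizer (iSup_le_normalizer h.toComps i)
    obtain ⟨R', hR'⟩ := H94.exists_sylow_inf_normal R H
    let φ : ↥H →* Equiv.Perm (Fin (2 ^ n + 1)) := (F.π i).comp H.subtype
    have hφ : Function.Surjective φ := fun τ => by
      obtain ⟨e, he, hτ⟩ := F.surjπ i τ
      exact ⟨⟨e, he⟩, hτ⟩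
    let P : Sylow 2 (Equiv.Perm (Fin (2 ^ n + 1))) := R'.mapSurjective hφ
    have hPcoe : (P : Subgroup (Equiv.Perm (Fin (2 ^ n + 1)))) = (R' : Subgroup ↥H).map φ :=
      Sylow.coe_mapSurjective hφ R'
    have hPle : (P : Subgroup (Equiv.Perm (Fin (2 ^ n + 1)))) ≤ (R : Subgroup ↥EE).map (F.π i) := by
      rw [hPcoe, hR']
      rintro _ ⟨x, hx, rfl⟩
      exact ⟨x, hx.1, rfl⟩
    have hPeq : (R : Subgroup ↥EE).map (F.π i) = P :=
      P.is_maximal' (R.isPGroup'.map _) hPle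
    have hmemR : ∀ e : ↥EE, (e : G) ∈ (T : Subgroup G) → e ∈ (R : Subgroup ↥EE) := fun e he => by
      rw [hR]; exact ⟨he, e.2⟩
    obtain ⟨σ, f, hp, hfix, htr, hsw⟩ := sylow_pairing h.pos_n rfl P
    refine ⟨σ, f, hp, fun e he => hfix _ ?_, fun a b ha hb => ?_, fun e a b he hab heq => hsw a b hab ?_⟩
    · show F.π i e ∈ (P : Subgroup _)
      rw [← hPeq]; exact mem_map_of_mem _ (hmemR e he)
    · obtain ⟨τ, hτ, hτa⟩ := htr a b ha hb
      change τ ∈ (P : Subgroup _) at hτ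
      rw [hPcoe, hR'] at hτ
      obtain ⟨x, hx, rfl⟩ := hτ
      refine ⟨x, ?_, x.2, hτa⟩
      have h1 : (x : ↥EE) ∈ (R : Subgroup ↥EE) := hx.1
      rw [hR] at h1
      exact h1.1
    · show Equiv.swap a b ∈ (P : Subgroup _)
      rw [← heq, ← hPeq]; exact mem_map_of_mem _ (hmemR e he)
  choose σ f h1 h2 h3 h4 using hdata
  exact ⟨⟨σ, f, h1, h2, h3, h4⟩⟩

/-- The elements of the join moving all points inside their pairs. -/
def swapGroup {F : Frame E n p} {T : Subgroup G} (P : Pairs F T) : Subgroup G :=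
  (⨅ i, (swapsOf (P.σ i) (P.pair i).invol).comap (F.π i)).map (⨆ i, E i).subtype

theorem mem_swapGroup {F : Frame E n p} {T : Subgroup G} {P : Pairs F T} {g : G} :
    g ∈ swapGroup P ↔ ∃ hg : g ∈ ⨆ i, E i, ∀ i, F.π i ⟨g, hg⟩ ∈ swapsOf (P.σ i) (P.pair i).invol := by
  constructor
  · rintro ⟨x, hx, rfl⟩
    exact ⟨x.2, fun i => mem_iInf.1 hx i⟩
  · rintro ⟨hg, hall⟩
    exact ⟨⟨g, hg⟩, mem_iInf.2 hall, rfl⟩

theorem swapGroup_le {F : Frame E n p} {T : Subgroup G} (P : Pairs F T) : swapGroup P ≤ ⨆ i, E i :=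
  map_subtype_le _

theorem cee_le_swapGroup (h : Comps T E) {F : Frame E n p} (P : Pairs F (T : Subgroup G)) :
    cee p G ≤ swapGroup P := fun g hg =>
  mem_swapGroup.2 ⟨(h.cent_le ⟨0, h.pos⟩).trans (le_iSup E _) hg, fun i => by
    rw [(F.kerπ _).2 hg i]; exact one_mem _⟩

/-- Elements with prescribed images are products of elements of the single components. -/
theorem exists_with_images (F : Frame E n p) (H : Fin r → Subgroup G) (hH : ∀ i, H i ≤ E i)
    (τ : Fin r → Equiv.Perm (Fin (2 ^ n + 1)))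
    (hτ : ∀ i, ∃ e : ↥(⨆ i, E i), (e : G) ∈ H i ∧ F.π i e = τ i) :
    ∃ e : ↥(⨆ i, E i), (e : G) ∈ (⨆ i, H i) ∧ ∀ i, F.π i e = τ i := by
  classical
  suffices key : ∀ s : Finset (Fin r), ∃ e : ↥(⨆ i, E i), (e : G) ∈ (⨆ i, H i) ∧
      ∀ i, F.π i e = if i ∈ s then τ i else 1 by
    obtain ⟨e, he, hπ⟩ := key Finset.univ
    exact ⟨e, he, fun i => by rw [hπ i, if_pos (Finset.mem_univ i)]⟩
  intro s
  induction s using Finset.induction with
  | empty => exact ⟨1, one_mem _, fun i => by simp⟩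
  | @insert j s hj ih =>
    obtain ⟨e, he, hπ⟩ := ih
    obtain ⟨x, hx, hxτ⟩ := hτ j
    refine ⟨e * x, mul_mem he (le_iSup H j hx), fun i => ?_⟩
    rw [map_mul, hπ i]
    by_cases hij : i = j
    · subst hij
      rw [if_neg hj, one_mul, hxτ, if_pos (Finset.mem_insert_self _ _)]
    · rw [F.other i j hij x (hH j hx), mul_one]
      simp [Finset.mem_insert, hij]

/-- The images in the single components of a group are covered by its parts in the components. -/
theorem le_iSup_inf_sup {F : Frame E n p} {T : Subgroup G} (P : Pairs F T) (H : Fin r → Subgroup G)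
    (hH : ∀ i, H i ≤ E i)
    (hτ : ∀ i, ∀ a, a ≠ P.f i → ∃ e : ↥(⨆ i, E i), (e : G) ∈ H i ∧ F.π i e = Equiv.swap a (P.σ i a)) :
    swapGroup P ≤ (⨆ i, H i) ⊔ cee p G := by
  intro g hg
  obtain ⟨hgE, hall⟩ := mem_swapGroup.1 hg
  have hex : ∀ i, ∃ e : ↥(⨆ i, E i), (e : G) ∈ H i ∧ F.π i e = F.π i ⟨g, hgE⟩ := by
    intro i
    have hle : swapsOf (P.σ i) (P.pair i).invol ≤ ((H i).subgroupOf (⨆ i, E i)).map (F.π i) :=
      swapsOf_le (P.pair i) fun a ha => by
        obtain ⟨e, he, hπ⟩ := hτ i a ha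
        exact ⟨e, he, hπ⟩
    obtain ⟨e, he, hπ⟩ := hle (hall i)
    exact ⟨e, he, hπ⟩
  obtain ⟨e, he, hπ⟩ := exists_with_images F H hH _ hex
  have hc : ((e⁻¹ * ⟨g, hgE⟩ : ↥(⨆ i, E i)) : G) ∈ cee p G :=
    (F.kerπ _).1 fun i => by rw [map_mul, map_inv, hπ i, inv_mul_cancel]
  rw [coe_mul, coe_inv] at hc
  rw [show g = (e : G) * ((e : G)⁻¹ * g) by group]
  exact mul_mem (mem_sup_left he) (mem_sup_right hc)

/-- `V` maps onto the product of the modules. -/
theorem exists_Φall (h : Comps T E) (F : Frame E n p) :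
    ∃ Φ : ↥(vee p G) →* (Fin r → Multiplicative ↥(evW (2 ^ n + 1))),
      Function.Surjective Φ ∧ ∀ v i, Φ v i = F.Φ i v := by
  classical
  refine ⟨MonoidHom.pi fun i => F.Φ i, fun w => ?_, fun v i => rfl⟩
  suffices key : ∀ s : Finset (Fin r), ∃ v : ↥(vee p G), ∀ i, F.Φ i v = if i ∈ s then w i else 1 by
    obtain ⟨v, hv⟩ := key Finset.univ
    exact ⟨v, funext fun i => (hv i).trans (if_pos (Finset.mem_univ i))⟩
  intro s
  induction s using Finset.induction with
  | empty => exact ⟨1, fun i => by simp⟩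
  | @insert j s hj ih =>
    obtain ⟨v, hv⟩ := ih
    obtain ⟨u, hu, huw⟩ := F.surjΦ j (w j)
    refine ⟨v * u, fun i => ?_⟩
    rw [map_mul, hv i]
    by_cases hij : i = j
    · subst hij
      rw [if_neg hj, one_mul, huw, if_pos (Finset.mem_insert_self _ _)]
    · rw [(F.kerΦ i u).2 (commutator_eq_bot_iff_le_centralizer.1 (h.cross j i (Ne.symm hij)) hu), mul_one]
      simp [Finset.mem_insert, hij]

/-- A commutative offender in `T` moves points inside their pairs, and contains the swaps it makes. -/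
theorem offender_in_pairs (h : SymCase T E n) {F : Frame E n p} (P : Pairs F (T : Subgroup G))
    {A : Subgroup G} (hAT : A ≤ (T : Subgroup G)) (hAEE : A ≤ ⨆ i, E i) [hAab : IsMulCommutative ↥A]
    (hoff : Nat.card ↥(vee p G) ≤ (cee p G).relIndex A * Nat.card ↥(vee p G ⊓ centralizer (A : Set G))) :
    A ≤ swapGroup P ∧ ∀ i, ∀ e : ↥(⨆ i, E i), (e : G) ∈ A → ∀ a, F.π i e a ≠ a →
      ∃ b : ↥(⨆ i, E i), (b : G) ∈ A ∧ (b : G) ∈ E i ∧ F.π i b = Equiv.swap a (P.σ i a) := by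
  classical
  haveI : (vee p G).Normal := H34.Push.vee_normal
  set EE := ⨆ i, E i with hEE
  let ι : ↥A →* ↥EE := Subgroup.inclusion hAEE
  let fi : ∀ i, ↥A →* Equiv.Perm (Fin (2 ^ n + 1)) := fun i => (F.π i).comp ι
  let fA : ↥A →* (Fin r → Equiv.Perm (Fin (2 ^ n + 1))) := MonoidHom.pi fi
  let Y : Fin r → Subgroup (Equiv.Perm (Fin (2 ^ n + 1))) := fun i => (fi i).range
  have hYc : ∀ i, ∀ x ∈ Y i, ∀ y ∈ Y i, x * y = y * x := by
    rintro i _ ⟨x, rfl⟩ _ ⟨y, rfl⟩
    rw [← map_mul, ← map_mul]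
    exact congrArg _ (Subtype.ext (setLike_mul_comm (s := A) x.2 y.2))
  let cY : Fin r → ℕ := fun i => Nat.card {x : ↥(evW (2 ^ n + 1)) // ∀ y ∈ Y i, evAct y x = x}
  let w := Nat.card ↥(evW (2 ^ n + 1))
  have hbd : ∀ i, Nat.card ↥(Y i) * cY i ≤ w := fun i => (evW_offender h.pos_n (Y i) (hYc i)).1
  have hrel : (cee p G).relIndex A = Nat.card ↥fA.range := by
    rw [← index_ker]
    show ((cee p G).subgroupOf A).index = _
    congr 1
    ext a
    rw [MonoidHom.mem_ker, mem_subgroupOf]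
    constructor
    · exact fun ha => funext fun i => (F.kerπ (ι a)).2 ha i
    · exact fun ha => (F.kerπ (ι a)).1 fun i => congrFun ha i
  obtain ⟨Φ, hΦs, hΦv⟩ := exists_Φall h.toComps F
  set K := (vee p G ⊓ centralizer (A : Set G)).subgroupOf (vee p G) with hKdef
  have hKcard : Nat.card ↥K = Nat.card ↥(vee p G ⊓ centralizer (A : Set G)) :=
    Nat.card_congr (subgroupOfEquivOfLe inf_le_left).toEquiv
  have hV1 : Nat.card ↥(vee p G) = w ^ r * Nat.card ↥Φ.ker := by
    rw [← Φ.ker.index_mul_card, index_ker, MonoidHom.range_eq_top_of_surjective Φ hΦs, card_top,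
      Nat.card_pi, Finset.prod_const, Finset.card_univ, Fintype.card_fin]
    rfl
  have hK1 : Nat.card ↥K ≤ (∏ i, cY i) * Nat.card ↥Φ.ker := by
    rw [← (Φ.comp K.subtype).ker.index_mul_card, index_ker]
    refine Nat.mul_le_mul ?_ (Nat.card_le_card_of_injective
      (fun x => (⟨(x : ↥K), x.2⟩ : ↥Φ.ker)) fun x y e => Subtype.ext (Subtype.ext (Subtype.ext (congrArg (fun z : ↥Φ.ker => ((z : ↥(vee p G)) : G)) e))))
    rw [← Nat.card_pi]
    let Gf : ↥(Φ.comp K.subtype).range → ((i : Fin r) → {x : ↥(evW (2 ^ n + 1)) // ∀ y ∈ Y i, evAct y x = x}) :=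
      fun z i => ⟨Multiplicative.toAdd (z.1 i), by
        obtain ⟨_, v, rfl⟩ := z
        rintro _ ⟨a, rfl⟩
        show evAct (F.π i (ι a)) (Multiplicative.toAdd (Φ v i)) = Multiplicative.toAdd (Φ v i)
        rw [hΦv]
        refine (F.act i (ι a) v v ?_).symm
        show ((v : ↥(vee p G)) : G) = (a : G) * ((v : ↥(vee p G)) : G) * (a : G)⁻¹
        exact (mul_inv_eq_iff_eq_mul.2 (mem_centralizer_iff.1 v.2.2 a a.2)).symm⟩
    refine Nat.card_le_card_of_injective Gf fun z z' e => Subtype.ext (funext fun i => ?_)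
    exact Multiplicative.toAdd.injective (congrArg Subtype.val (congrFun e i))
  let J : ↥fA.range → ((i : Fin r) → ↥(Y i)) := fun z i => ⟨z.1 i, by
    obtain ⟨_, a, rfl⟩ := z
    exact ⟨a, rfl⟩⟩
  have hJ : Function.Injective J := fun z z' e =>
    Subtype.ext (funext fun i => congrArg Subtype.val (congrFun e i))
  have hA1 : Nat.card ↥fA.range ≤ ∏ i, Nat.card ↥(Y i) := by
    rw [← Nat.card_pi]; exact Nat.card_le_card_of_injective J hJ
  rw [hrel, ← hKcard, hV1] at hoff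
  have hk0 : 0 < Nat.card ↥Φ.ker := Nat.card_pos
  have hmain : w ^ r ≤ Nat.card ↥fA.range * ∏ i, cY i := by
    refine Nat.le_of_mul_le_mul_right ?_ hk0
    rw [mul_assoc]
    exact hoff.trans (Nat.mul_le_mul_left _ hK1)
  have hcpos : ∀ i, 0 < cY i := fun i => by
    haveI : Nonempty {x : ↥(evW (2 ^ n + 1)) // ∀ y ∈ Y i, evAct y x = x} := ⟨⟨0, fun y _ => rfl⟩⟩
    exact Nat.card_pos
  have hprod : ∏ i, Nat.card ↥(Y i) * cY i ≤ w ^ r := by
    refine (Finset.prod_le_prod' fun i _ => hbd i).trans ?_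
    rw [Finset.prod_const, Finset.card_univ, Fintype.card_fin]
  have heqi : ∀ i, w ≤ Nat.card ↥(Y i) * cY i := by
    intro i
    by_contra hlt
    have : ∏ i, Nat.card ↥(Y i) * cY i < w ^ r := by
      rw [show w ^ r = ∏ _i : Fin r, w by rw [Finset.prod_const, Finset.card_univ, Fintype.card_fin]]
      exact Finset.prod_lt_prod (fun j _ => Nat.mul_pos Nat.card_pos (hcpos j)) (fun j _ => hbd j)
        ⟨i, Finset.mem_univ i, not_le.1 hlt⟩
    rw [Finset.prod_mul_distrib] at this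
    have := hmain.trans (Nat.mul_le_mul_right _ hA1)
    omega
  have hcard : Nat.card ↥fA.range = Nat.card ((i : Fin r) → ↥(Y i)) := by
    rw [Nat.card_pi]
    refine le_antisymm hA1 (Nat.le_of_mul_le_mul_right (c := ∏ i, cY i) ?_ (Finset.prod_pos fun i _ => hcpos i))
    rw [← Finset.prod_mul_distrib]
    exact hprod.trans hmain
  have hJb : Function.Bijective J := by
    rw [Fintype.bijective_iff_injective_and_card]
    exact ⟨hJ, by simpa [Nat.card_eq_fintype_card] using hcard⟩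
  have hswap : ∀ i, ∀ e : ↥EE, (e : G) ∈ A → ∀ a, F.π i e a ≠ a →
      F.π i e a = P.σ i a ∧ ∃ b : ↥EE, (b : G) ∈ A ∧ (b : G) ∈ E i ∧ F.π i b = Equiv.swap a (F.π i e a) := by
    intro i e he a hne
    have hmemY : F.π i e ∈ Y i := ⟨⟨e, he⟩, rfl⟩
    obtain ⟨-, hsw⟩ := (evW_offender h.pos_n (Y i) (hYc i)).2 (heqi i) _ hmemY a
    obtain ⟨⟨_, b, rfl⟩, hb⟩ := hJb.surjective fun j =>
      if hj : j = i then ⟨Equiv.swap a (F.π i e a), by subst hj; exact hsw hne⟩ else 1
    have hbi : F.π i (ι b) = Equiv.swap a (F.π i e a) := by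
      have := congrArg Subtype.val (congrFun hb i)
      rw [dif_pos rfl] at this
      exact this
    have hbo : ∀ j, j ≠ i → F.π j (ι b) = 1 := fun j hj => by
      have := congrArg Subtype.val (congrFun hb j)
      rw [dif_neg hj] at this
      exact this
    refine ⟨P.transp i (ι b) a _ (hAT b.2) (Ne.symm hne) hbi, ι b, b.2, ?_, hbi⟩
    obtain ⟨x, hx, hxπ⟩ := F.surjπ i (Equiv.swap a (F.π i e a))
    have hc' : ((x⁻¹ * ι b : ↥EE) : G) ∈ cee p G := (F.kerπ _).1 fun j => by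
      rw [map_mul, map_inv]
      by_cases hj : j = i
      · subst hj; rw [hxπ, hbi, inv_mul_cancel]
      · rw [F.other j i hj x hx, hbo j hj]; simp
    rw [coe_mul, coe_inv] at hc'
    have := mul_mem hx (h.cent_le i hc')
    rwa [mul_inv_cancel_left] at this
  refine ⟨fun a ha => mem_swapGroup.2 ⟨hAEE ha, fun i x => ?_⟩, fun i e he a hne => ?_⟩
  · by_cases hx : F.π i ⟨a, hAEE ha⟩ x = x
    · exact Or.inl hx
    · exact Or.inr (hswap i _ ha x hx).1
  · obtain ⟨h1, h2⟩ := hswap i e he a hne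
    rwa [h1] at h2

/-- A member of `𝒜(G)` in `T` moves points inside their pairs, and contains the swaps it makes. -/
theorem max_in_pairs (hc : Ctx T M) (h : SymCase T E n) {F : Frame E n p} (P : Pairs F (T : Subgroup G))
    {A : Subgroup G} (hAT : A ≤ (T : Subgroup G)) (hA : A ∈ Cfsg.maxElementaryAbelianSubgroups p G) :
    A ≤ swapGroup P ∧ ∀ i, ∀ e : ↥(⨆ i, E i), (e : G) ∈ A → ∀ a, F.π i e a ≠ a →
      ∃ b : ↥(⨆ i, E i), (b : G) ∈ A ∧ (b : G) ∈ E i ∧ F.π i b = Equiv.swap a (P.σ i a) := by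
  haveI := hA.1.1
  exact offender_in_pairs h P hAT (by rw [h.sup]; exact le_sup_of_le_left (le_sSup hA))
    (le_of_eq (hc.offender hA))

/-- Every pair of every component has an involution lift in `J(T)`, and `J(T)` moves points inside their pairs. -/
theorem thompson_pairs (hc : Ctx T M) (h : SymCase T E n) {F : Frame E n p} (P : Pairs F (T : Subgroup G)) :
    Cfsg.thompsonSubgroupOf p (T : Subgroup G) ≤ swapGroup P ∧
      ∀ i a, a ≠ P.f i → ∃ y : ↥(⨆ i, E i), (y : G) ∈ Cfsg.thompsonSubgroupOf p (T : Subgroup G) ∧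
        (y : G) ∈ E i ∧ y * y = 1 ∧ F.π i y = Equiv.swap a (P.σ i a) := by
  classical
  set EE := ⨆ i, E i with hEE
  haveI : EE.Normal := iSup_normal h.toComps
  have hJle : Cfsg.thompsonSubgroupOf p (T : Subgroup G) ≤ swapGroup P := by
    rw [H34.thompsonSubgroupOf_sylow]
    exact sSup_le fun A hA => (max_in_pairs hc h P hA.1 hA.2).1
  refine ⟨hJle, ?_⟩
  set JT := Cfsg.thompsonSubgroupOf p (T : Subgroup G) with hJTdef
  have hAJ : ∀ A : Subgroup G, A ≤ (T : Subgroup G) → A ∈ Cfsg.maxElementaryAbelianSubgroups p G → A ≤ JT :=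
    fun A h1 h2 => by rw [hJTdef, H34.thompsonSubgroupOf_sylow]; exact le_sSup ⟨h1, h2⟩
  -- some component moves
  have hsome : ∃ A : Subgroup G, A ≤ (T : Subgroup G) ∧ A ∈ Cfsg.maxElementaryAbelianSubgroups p G ∧
      ¬ A ≤ cee p G := by
    by_contra hno
    push Not at hno
    haveI : (cee p G).Normal := H34.Push.cee_normal
    have hJG : Cfsg.thompsonSubgroup p G ≤ cee p G := by
      refine sSup_le fun B hB => ?_
      obtain ⟨S, hS⟩ := (H34.IsPGroup_of_isElementaryAbelian hB.1).exists_le_sylow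
      obtain ⟨g, hg⟩ := MulAction.exists_smul_eq G S T
      have hmap : (S : Subgroup G).map (MulAut.conj g).toMonoidHom = (T : Subgroup G) := by
        rw [← hg]; rfl
      intro x hx
      have h1 : g * x * g⁻¹ ∈ cee p G :=
        hno (B.map (MulAut.conj g).toMonoidHom) ((map_mono hS).trans hmap.le)
          (H34.map_mem_max (MulAut.conj g) hB) ⟨x, hx, rfl⟩
      have := Normal.conj_mem inferInstance _ h1 g⁻¹
      simpa [mul_assoc] using this
    let i : Fin r := ⟨0, h.pos⟩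
    obtain ⟨e, -, hπ⟩ := F.surjπ i (Equiv.swap (P.f i) (P.f i + 1))
    have heC : (e : G) ∈ cee p G := by
      have : EE ≤ cee p G := by rw [hEE, h.sup]; exact sup_le hJG le_rfl
      exact this e.2
    rw [(F.kerπ e).2 heC i, eq_comm, Equiv.Perm.one_def, Equiv.swap_eq_refl_iff] at hπ
    have hn3 := three_le_degree h.pos_n
    have h2 := congrArg Fin.val hπ
    rw [Fin.val_add_one] at h2
    split_ifs at h2 with h3
    · have := congrArg Fin.val h3
      simp only [Fin.val_last] at this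
      omega
    · omega
  -- spreading over a component
  have hspread : ∀ i a, a ≠ P.f i → (∃ y : ↥EE, (y : G) ∈ JT ∧ (y : G) ∈ E i ∧ y * y = 1 ∧
      F.π i y = Equiv.swap a (P.σ i a)) → ∀ b, b ≠ P.f i → ∃ y : ↥EE, (y : G) ∈ JT ∧ (y : G) ∈ E i ∧ y * y = 1 ∧
      F.π i y = Equiv.swap b (P.σ i b) := by
    rintro i a ha ⟨y, hy, hyE, hyy, hyπ⟩ b hb
    obtain ⟨e, heT, heE, heab⟩ := P.trans i a b ha hb
    have hJ' : ((e * y * e⁻¹ : ↥EE) : G) ∈ JT := by
      have hN := H34.normalizer_le_normalizer_thompson (p := p) (T : Subgroup G) (le_normalizer heT)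
      exact (mem_normalizer_iff.1 hN _).1 hy
    have hπ' : F.π i (e * y * e⁻¹) = Equiv.swap (F.π i e a) (F.π i e (P.σ i a)) := by
      rw [map_mul, map_mul, map_inv, hyπ, Equiv.swap_apply_apply]
    refine ⟨e * y * e⁻¹, hJ', mul_mem (mul_mem heE hyE) (inv_mem heE), ?_, ?_⟩
    · rw [show e * y * e⁻¹ * (e * y * e⁻¹) = e * (y * y) * e⁻¹ by group, hyy]; group
    · rw [hπ', heab]
      have hT' : ((e * y * e⁻¹ : ↥EE) : G) ∈ (T : Subgroup G) := H34.thompsonSubgroupOf_le _ hJ'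
      rw [heab] at hπ'
      rw [P.transp i _ b _ hT' (fun e' => (P.pair i).ne ha ((F.π i e).injective (e'.symm.trans heab.symm))) hπ']
  have hone : ∀ A : Subgroup G, A ≤ (T : Subgroup G) → A ∈ Cfsg.maxElementaryAbelianSubgroups p G →
      ∀ i, ∀ e : ↥EE, (e : G) ∈ A → F.π i e ≠ 1 → ∃ a, a ≠ P.f i ∧ ∃ y : ↥EE, (y : G) ∈ A ∧ (y : G) ∈ E i ∧
        y * y = 1 ∧ F.π i y = Equiv.swap a (P.σ i a) := by
    intro A hAT hA i e he hne
    obtain ⟨a, ha⟩ : ∃ a, F.π i e a ≠ a := by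
      by_contra hall
      push Not at hall
      exact hne (Equiv.ext hall)
    obtain ⟨b, hb, hbE, hbπ⟩ := (max_in_pairs hc h P hAT hA).2 i e he a ha
    refine ⟨a, fun e' => ha (e' ▸ P.fix i e (hAT he)), b, hb, hbE, Subtype.ext ?_, hbπ⟩
    have := hA.1.2 b hb
    rw [h.two, pow_two] at this
    exact this
  intro i a ha
  obtain ⟨A, hAT, hA, hAC⟩ := hsome
  obtain ⟨x, hx, hxC⟩ := SetLike.not_le_iff_exists.1 hAC
  have hxE : x ∈ EE := (swapGroup_le P) ((max_in_pairs hc h P hAT hA).1 hx)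
  obtain ⟨i₀, hi₀⟩ : ∃ i₀, F.π i₀ ⟨x, hxE⟩ ≠ 1 := by
    by_contra hall
    push Not at hall
    exact hxC ((F.kerπ ⟨x, hxE⟩).1 hall)
  obtain ⟨a₀, ha₀, y, hyA, hyE, hyy, hyπ⟩ := hone A hAT hA i₀ _ hx hi₀
  obtain ⟨t, ht, htE⟩ := h.trans i₀ i
  have hA' : A.map (MulAut.conj t).toMonoidHom ≤ (T : Subgroup G) := by
    rintro _ ⟨z, hz, rfl⟩
    exact mul_mem (mul_mem ht (hAT hz)) (inv_mem ht)
  have hy' : t * (y : G) * t⁻¹ ∈ EE := Normal.conj_mem inferInstance _ y.2 t
  have hne' : F.π i ⟨_, hy'⟩ ≠ 1 := by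
    intro e1
    have hyC : (y : G) ∈ cee p G := by
      have h2 : ((⟨_, hy'⟩ : ↥EE) : G) ∈ cee p G := (F.kerπ _).1 fun j => by
        by_cases hj : j = i
        · subst hj; exact e1
        · exact F.other j i hj _ (htE.le ⟨y, hyE, rfl⟩)
      haveI : (cee p G).Normal := H34.Push.cee_normal
      have := Normal.conj_mem inferInstance _ h2 t⁻¹
      simpa [mul_assoc] using this
    have := (F.kerπ y).2 hyC i₀
    rw [hyπ, Equiv.Perm.one_def, Equiv.swap_eq_refl_iff] at this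
    exact (P.pair i₀).ne ha₀ this.symm
  obtain ⟨a₁, ha₁, y₁, hy₁A, hrest⟩ := hone _ hA' (H34.map_mem_max (MulAut.conj t) hA) i ⟨_, hy'⟩
    ⟨y, hyA, rfl⟩ hne'
  exact hspread i a₁ ha₁ ⟨y₁, hAJ _ hA' (H34.map_mem_max (MulAut.conj t) hA) hy₁A, hrest⟩ a ha

end Cfsg.Agent.H29.Push
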