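import Cfsg.Agent.H29.Push.SymImages
import Cfsg.Agent.H34.ComponentProduct
import Mathlib

/-!
In symmetric components a rank one subgroup over `PSL₂(2)` lies above the Baumann subgroup and generates the
group with `T`.
-/

set_option autoImplicit false
set_option linter.style.haveILetI false
set_option linter.unusedSectionVars false

open scoped commutatorElement

namespace Cfsg.Agent.H29.Push

open Subgroup
open Cfsg.Agent.H34.Push (vee cee wee pee ell Comps SymRep SymCase Ctx Core RankSub)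

universe u

variable {G : Type u} [Group G] [Finite G] {p : ℕ} [Fact p.Prime] {T : Sylow p G} {M : Subgroup G}
  {r : ℕ} {E : Fin r → Subgroup G} {n : ℕ}

/-- The projective group over two elements is symmetric of degree three. -/
theorem exists_perm_three_psl :
    Nonempty (Equiv.Perm (Fin 3) ≃* Matrix.ProjectiveSpecialLinearGroup (Fin 2) (ZMod 2)) := by
  obtain ⟨e⟩ := H34.exists_sl2_two_equiv
  refine ⟨e.symm.trans (MulEquiv.ofBijective (QuotientGroup.mk' (Subgroup.center _))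
    ⟨(MonoidHom.ker_eq_bot_iff _).1 ?_, QuotientGroup.mk'_surjective _⟩)⟩
  rw [QuotientGroup.ker_mk', eq_bot_iff]
  intro z hz
  refine mem_bot.2 (e.injective ?_)
  rw [map_one]
  refine H34.perm_three_center _ fun τ => ?_
  obtain ⟨g, rfl⟩ := e.surjective τ
  rw [← map_mul, ← map_mul, mem_center_iff.1 hz g]

/-- The permutations preserving `s` and otherwise moving points inside their pairs. -/
def triGroup {N : ℕ} (σ : Equiv.Perm (Fin N)) (hσ : ∀ x, σ (σ x) = x) (s : Finset (Fin N))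
    (hs : ∀ x, x ∈ s → σ x ∈ s) : Subgroup (Equiv.Perm (Fin N)) where
  carrier := {π | ∀ x, (x ∈ s → π x ∈ s) ∧ (x ∉ s → π x = x ∨ π x = σ x)}
  one_mem' := fun _ => ⟨fun h => h, fun _ => Or.inl rfl⟩
  mul_mem' := by
    intro π π' h h' x
    refine ⟨fun hx => (h _).1 ((h' x).1 hx), fun hx => ?_⟩
    show π (π' x) = x ∨ π (π' x) = σ x
    rcases (h' x).2 hx with e | e <;> rw [e]
    · exact (h x).2 hx
    · have hx' : σ x ∉ s := fun e' => hx (by rw [← hσ x]; exact hs _ e')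
      rcases (h (σ x)).2 hx' with e' | e'
      · exact Or.inr e'
      · exact Or.inl (e'.trans (hσ x))
  inv_mem' := by
    intro π h x
    have e : π (π⁻¹ x) = x := π.apply_symm_apply x
    refine ⟨fun hx => ?_, fun hx => ?_⟩
    · by_contra hy
      rcases (h (π⁻¹ x)).2 hy with e' | e' <;> rw [e] at e'
      · exact hy (e' ▸ hx)
      · exact hy (by rw [← hσ (π⁻¹ x)]; exact hs _ (e' ▸ hx))
    · have hy : π⁻¹ x ∉ s := fun hy => hx (e ▸ (h _).1 hy)
      rcases (h (π⁻¹ x)).2 hy with e' | e' <;> rw [e] at e'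
      · exact Or.inl e'.symm
      · exact Or.inr (by conv_rhs => rw [e', hσ])

/-- Every 2-subgroup of `C_G(V)` lies in `O_p(G)`. -/
theorem le_core_of_le_cee (hc : Ctx T M) {P : Subgroup G} (hP : IsPGroup p P) (hPC : P ≤ cee p G) :
    P ≤ Cfsg.pCore p G := by
  haveI : (cee p G).Normal := H34.Push.cee_normal
  haveI : (Cfsg.pCore p G).Normal := H34.Push.pCore_normal'
  obtain ⟨S, hS⟩ := hP.exists_le_sylow
  obtain ⟨g, hg⟩ := MulAction.exists_smul_eq G S T
  have hmap : (S : Subgroup G).map (MulAut.conj g).toMonoidHom = (T : Subgroup G) := by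
    rw [← hg]; rfl
  intro x hx
  have h1 : g * x * g⁻¹ ∈ Cfsg.pCore p G :=
    hc.inf_cee.le ⟨hmap.le ⟨x, hS hx, rfl⟩, Normal.conj_mem inferInstance _ (hPC hx) g⟩
  have := Normal.conj_mem inferInstance _ h1 g⁻¹
  simpa [mul_assoc] using this

theorem pee_normal (T : Subgroup G) : (pee p T).Normal := by
  haveI : (vee p G).Normal := H34.Push.vee_normal
  haveI : (Cfsg.pCore p G).Normal := H34.Push.pCore_normal'
  haveI : (wee p T).Normal := by rw [wee]; infer_instance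
  rw [pee]
  infer_instance

theorem two_of_proper {H K : Subgroup (Matrix.ProjectiveSpecialLinearGroup (Fin 2) (ZMod 2))}
    (hH : Nat.card H = 2) (hle : H ≤ K) (hK : K ≠ ⊤) : K = H := by
  obtain ⟨e⟩ := exists_perm_three_psl
  have h6 : Nat.card (Matrix.ProjectiveSpecialLinearGroup (Fin 2) (ZMod 2)) = 6 := by
    rw [← Nat.card_congr e.toEquiv, Nat.card_perm, Nat.card_fin]; rfl
  have h1 : 2 ∣ Nat.card K := by
    have := card_dvd_of_le hle
    rwa [hH] at this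
  have h2 : Nat.card K ∣ 6 := h6 ▸ card_subgroup_dvd_card K
  have h3 : Nat.card K ≠ 6 := fun h => hK (eq_top_of_card_eq K (h.trans h6.symm))
  have h4 := Nat.le_of_dvd (by norm_num) h2
  refine (eq_of_le_of_card_ge hle ?_).symm
  rw [hH]
  interval_cases (Nat.card K) <;> omega

theorem card_two_of_pgroup {H : Subgroup (Matrix.ProjectiveSpecialLinearGroup (Fin 2) (ZMod 2))}
    (hH : IsPGroup 2 H) (hne : H ≠ ⊥) : Nat.card H = 2 := by
  obtain ⟨e⟩ := exists_perm_three_psl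
  have h6 : Nat.card (Matrix.ProjectiveSpecialLinearGroup (Fin 2) (ZMod 2)) = 6 := by
    rw [← Nat.card_congr e.toEquiv, Nat.card_perm, Nat.card_fin]; rfl
  haveI : Fact (Nat.Prime 2) := ⟨Nat.prime_two⟩
  obtain ⟨k, hk⟩ := hH.exists_card_eq
  have h2 : Nat.card H ∣ 6 := h6 ▸ card_subgroup_dvd_card H
  rw [hk] at h2
  rcases k with _ | _ | k
  · exact absurd ((card_eq_one).1 (hk.trans (pow_zero 2))) hne
  · exact hk
  · exfalso
    have h4 : (4 : ℕ) ∣ 6 := (show (4 : ℕ) ∣ 2 ^ (k + 1 + 1) from ⟨2 ^ k, by ring⟩).trans h2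
    omega

/-- A subgroup over `C` and `T` moving the fixed point inside one component is everything. -/
theorem eq_top_of_moves (h : SymCase T E n) {F : Frame E n p} (P : Pairs F (T : Subgroup G)) {i : Fin r}
    {X : Subgroup G} (hTX : (T : Subgroup G) ≤ X) (hCX : cee p G ≤ X) {e : ↥(⨆ i, E i)} (heE : (e : G) ∈ E i)
    (heX : (e : G) ∈ X) {a : Fin (2 ^ n + 1)} (ha : a ≠ P.f i) (hπ : F.π i e = Equiv.swap (P.f i) a) :
    X = ⊤ := by
  classical
  set H := ((X ⊓ E i).subgroupOf (⨆ i, E i)).map (F.π i) with hH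
  have htop : H = ⊤ := by
    refine eq_top_of_swaps (f := P.f i) fun b hb => ?_
    obtain ⟨t, htT, htE, htab⟩ := P.trans i a b ha hb
    have h1 : F.π i (t * e * t⁻¹) ∈ H :=
      mem_map_of_mem _ ⟨X.mul_mem (X.mul_mem (hTX htT) heX) (X.inv_mem (hTX htT)),
        (E i).mul_mem ((E i).mul_mem htE heE) ((E i).inv_mem htE)⟩
    rwa [map_mul, map_mul, map_inv, hπ, ← Equiv.swap_apply_apply, P.fix i t htT, htab] at h1
  have hEi : E i ≤ X := by
    intro g hg
    obtain ⟨x, hx, hxπ⟩ := (htop.ge (mem_top (F.π i ⟨g, le_iSup E i hg⟩)) : _ ∈ H)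
    have hc' : ((x⁻¹ * ⟨g, le_iSup E i hg⟩ : ↥(⨆ i, E i)) : G) ∈ cee p G := (F.kerπ _).1 fun j => by
      rw [map_mul, map_inv]
      by_cases hj : j = i
      · subst hj; rw [hxπ, inv_mul_cancel]
      · rw [F.other j i hj x hx.2, F.other j i hj _ hg]; simp
    rw [coe_mul, coe_inv] at hc'
    rw [show g = (x : G) * ((x : G)⁻¹ * g) by group]
    exact mul_mem hx.1 (hCX hc')
  refine top_unique (h.top.ge.trans (sup_le (iSup_le fun j => ?_) hTX))
  obtain ⟨t, ht, htE⟩ := h.trans i j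
  rw [← htE]
  rintro _ ⟨g, hg, rfl⟩
  exact mul_mem (mul_mem (hTX ht) (hEi hg)) (inv_mem (hTX ht))

/-- The rank one subgroup. -/
theorem exists_rankSub (hc : Ctx T M) (h : SymCase T E n) (co : Core T E) :
    ∃ R : Subgroup G, RankSub T (ZMod 2) 1 R := by
  classical
  obtain rfl := h.two
  haveI : (cee 2 G).Normal := H34.Push.cee_normal
  let i : Fin r := ⟨0, h.pos⟩
  obtain ⟨ρ, ψ, hr⟩ := h.rep i
  obtain ⟨F, -⟩ := exists_frame h i hr
  obtain ⟨P⟩ := exists_pairs h F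
  have hW := baumann_sup_cee hc h P
  have hEi : ∀ j, E j ≤ ⨆ j, E j := le_iSup E
  set B := Cfsg.baumannSubgroupOf 2 (T : Subgroup G) with hB
  set L := ell 2 (T : Subgroup G) with hL
  have hBW : B ≤ swapGroup P := le_sup_left.trans hW.le
  haveI : L.Normal := by rw [hL, ell]; infer_instance
  obtain ⟨a, ha⟩ : ∃ a, a ≠ P.f i := by
    haveI : Nontrivial (Fin (2 ^ n + 1)) := Fin.nontrivial_iff_two_le.2 (by
      have := three_le_degree h.pos_n; omega)
    exact exists_ne _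
  set b := P.σ i a with hb
  have hab : a ≠ b := ((P.pair i).ne ha).symm
  have hbf : b ≠ P.f i := (P.pair i).ne_f ha
  let s : Finset (Fin (2 ^ n + 1)) := {a, b, P.f i}
  have hs : ∀ x, x ∈ s → P.σ i x ∈ s := by
    intro x hx
    simp only [s, Finset.mem_insert, Finset.mem_singleton] at hx ⊢
    rcases hx with rfl | rfl | rfl
    · exact Or.inr (Or.inl rfl)
    · exact Or.inl ((P.pair i).invol a)
    · exact Or.inr (Or.inr (P.pair i).σ_f)
  have hscard : Fintype.card ↥s = 3 := by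
    rw [Fintype.card_coe, Finset.card_insert_of_notMem (by simp [hab, ha]), Finset.card_pair hbf]
  let Q := triGroup (P.σ i) (P.pair i).invol s hs
  obtain ⟨e3⟩ := exists_perm_three_psl
  let res : ↥Q →* Equiv.Perm ↥s := MonoidHom.mk'
    (fun π => (π : Equiv.Perm (Fin (2 ^ n + 1))).subtypePerm fun x => ⟨fun hx => by
      by_contra hx'
      rcases (π.2 x).2 hx' with e | e <;> rw [e] at hx
      · exact hx' hx
      · exact hx' (by rw [← (P.pair i).invol x]; exact hs _ hx), (π.2 x).1⟩)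
    fun π π' => Equiv.ext fun x => Subtype.ext rfl
  let c3 : Equiv.Perm ↥s ≃* Equiv.Perm (Fin 3) :=
    (Fintype.equivFinOfCardEq hscard).permCongrHom
  have hext : ∀ τ : Equiv.Perm ↥s, Equiv.Perm.ofSubtype τ ∈ Q := fun τ x => by
    refine ⟨fun hx => ?_, fun hx => Or.inl (Equiv.Perm.ofSubtype_apply_of_not_mem τ hx)⟩
    rw [Equiv.Perm.ofSubtype_apply_of_mem τ hx]; exact (τ ⟨x, hx⟩).2
  -- the largest candidate
  let Qs : Fin r → Subgroup (Equiv.Perm (Fin (2 ^ n + 1))) := fun j =>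
    if j = i then Q else swapsOf (P.σ j) (P.pair j).invol
  let D : Subgroup G := (⨅ j, (Qs j).comap (F.π j)).map (⨆ j, E j).subtype
  have hD : ∀ g, g ∈ D ↔ ∃ hg : g ∈ ⨆ j, E j, ∀ j, F.π j ⟨g, hg⟩ ∈ Qs j := fun g => by
    constructor
    · rintro ⟨x, hx, rfl⟩
      exact ⟨x.2, fun j => mem_iInf.1 hx j⟩
    · rintro ⟨hg, hall⟩
      exact ⟨⟨g, hg⟩, mem_iInf.2 hall, rfl⟩
  have hWD : swapGroup P ≤ D := fun g hg => by
    obtain ⟨hgE, hall⟩ := mem_swapGroup.1 hg
    refine (hD g).2 ⟨hgE, fun j => ?_⟩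
    by_cases hj : j = i
    · subst hj
      simp only [Qs, if_pos rfl]
      refine fun x => ⟨fun hx => ?_, fun _ => hall _ x⟩
      rcases hall _ x with e | e <;> rw [e]
      · exact hx
      · exact hs x hx
    · simp only [Qs, if_neg hj]; exact hall j
  set Rm := L ⊓ D with hRm
  set C0 := L ⊓ cee 2 G with hC0
  haveI : C0.Normal := by rw [hC0]; infer_instance
  have hBL : B ≤ L := subset_normalClosure
  obtain ⟨R, ⟨hBR, hRle, hRsup⟩, hmin⟩ := Set.exists_min_image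
    {R : Subgroup G | B ≤ R ∧ R ≤ Rm ∧ Rm ≤ R ⊔ C0} (fun R => Nat.card R) (Set.toFinite _)
    ⟨Rm, le_inf hBL (hBW.trans hWD), le_rfl, le_sup_left⟩
  have hRD : ∀ x : ↥R, ∃ hg : (x : G) ∈ ⨆ j, E j, ∀ j, F.π j ⟨x, hg⟩ ∈ Qs j := fun x =>
    (hD _).1 (hRle x.2).2
  have hRE : R ≤ ⨆ j, E j := fun x hx => (hRD ⟨x, hx⟩).1
  let ι : ↥R →* ↥(⨆ j, E j) := Subgroup.inclusion hRE
  have hQi : ∀ x : ↥R, F.π i (ι x) ∈ Q := fun x => by
    obtain ⟨hg, hall⟩ := hRD x
    have := hall i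
    simp only [Qs, if_pos rfl] at this
    exact this
  let φ : ↥R →* Matrix.ProjectiveSpecialLinearGroup (Fin 2) (ZMod 2) :=
    e3.toMonoidHom.comp (c3.toMonoidHom.comp (res.comp (MonoidHom.codRestrict ((F.π i).comp ι) Q hQi)))
  have hφ : ∀ x : ↥R, φ x = e3 (c3 (res ⟨F.π i (ι x), hQi x⟩)) := fun x => rfl
  have hι : ∀ x : ↥R, ((ι x : ↥(⨆ j, E j)) : G) = x := fun x => rfl
  -- prescribed elements of the candidate
  have hget : ∀ τ : Equiv.Perm ↥s, ∃ l, l ∈ Rm ∧ ∃ hl : l ∈ ⨆ j, E j,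
      F.π i ⟨l, hl⟩ = Equiv.Perm.ofSubtype τ ∧
      ∃ e : ↥(⨆ j, E j), (e : G) ∈ E i ∧ (e : G) ∈ Rm ⊔ cee 2 G ∧ F.π i e = Equiv.Perm.ofSubtype τ := by
    intro τ
    obtain ⟨e, he, hπ⟩ := F.surjπ i (Equiv.Perm.ofSubtype τ)
    have he' : (e : G) ∈ L ⊔ cee 2 G := co.L_sup.ge e.2
    rw [← SetLike.mem_coe, mul_normal] at he'
    obtain ⟨l, hl, c, hcc, hlc⟩ := he'
    have hlE : l ∈ ⨆ j, E j := co.L_le hl
    have hcE : c ∈ ⨆ j, E j := hEi i (h.cent_le i hcc)
    have hmul : ∀ j, F.π j ⟨l, hlE⟩ = F.π j e := fun j => by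
      have : e = ⟨l, hlE⟩ * ⟨c, hcE⟩ := Subtype.ext hlc.symm
      rw [this, map_mul, (F.kerπ ⟨c, hcE⟩).2 hcc j, mul_one]
    suffices hlRm : l ∈ Rm from
      ⟨l, hlRm, hlE, (hmul i).trans hπ, e, he, hlc ▸ mul_mem (mem_sup_left hlRm) (mem_sup_right hcc), hπ⟩
    refine ⟨hl, (hD l).2 ⟨hlE, fun j => ?_⟩⟩
    rw [hmul j]
    by_cases hj : j = i
    · subst hj; simp only [Qs, if_pos rfl, hπ]; exact hext τ
    · simp only [Qs, if_neg hj, F.other j i hj e he]; exact one_mem _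
  have hφs : Function.Surjective φ := by
    intro y
    obtain ⟨τ, rfl⟩ : ∃ τ, e3 (c3 τ) = y := ⟨c3.symm (e3.symm y), by simp⟩
    obtain ⟨l, hl, hlE, hlπ, -⟩ := hget τ
    have hl' := hRsup hl
    rw [← SetLike.mem_coe, mul_normal] at hl'
    obtain ⟨x, hx, c, hcc, hxc⟩ := hl'
    refine ⟨⟨x, hx⟩, ?_⟩
    rw [hφ]
    congr 2
    have hcE : c ∈ ⨆ j, E j := hEi i (h.cent_le i hcc.2)
    have : F.π i (ι ⟨x, hx⟩) = Equiv.Perm.ofSubtype τ := by
      rw [← hlπ, show (⟨l, hlE⟩ : ↥(⨆ j, E j)) = ι ⟨x, hx⟩ * ⟨c, hcE⟩ from Subtype.ext hxc.symm, map_mul,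
        (F.kerπ ⟨c, hcE⟩).2 hcc.2 i, mul_one]
    refine Equiv.ext fun z => Subtype.ext ?_
    show F.π i (ι ⟨x, hx⟩) (z : Fin (2 ^ n + 1)) = _
    rw [this, Equiv.Perm.ofSubtype_apply_coe]
  have hker : ∀ x : ↥R, φ x = 1 → (x : G) ∈ swapGroup P := by
    intro x hx
    rw [hφ, EmbeddingLike.map_eq_one_iff, EmbeddingLike.map_eq_one_iff] at hx
    obtain ⟨hg, hall⟩ := hRD x
    refine mem_swapGroup.2 ⟨hg, fun j => ?_⟩
    by_cases hj : j = i
    · subst hj
      intro z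
      by_cases hz : z ∈ s
      · exact Or.inl (congrArg Subtype.val (Equiv.ext_iff.1 hx ⟨z, hz⟩))
      · exact ((hQi x) z).2 hz
    · have := hall j
      simp only [Qs, if_neg hj] at this
      exact this
  set S0 := B.subgroupOf R with hS0
  have hS0p : IsPGroup 2 S0 :=
    ((T.isPGroup'.to_le inf_le_left : IsPGroup 2 B).comap_subtype)
  have hφS : Nat.card ↥(S0.map φ) = 2 := by
    refine card_two_of_pgroup (hS0p.map φ) fun hbot => ?_
    obtain ⟨y, hyJ, hyE, -, hπ⟩ := (thompson_pairs hc h P).2 i a ha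
    have hyB : (y : G) ∈ B := H51.thompsonSubgroupOf_le_baumann _ hyJ
    have h1 : φ ⟨y, hBR hyB⟩ = 1 := mem_bot.1 (hbot ▸ mem_map_of_mem φ (show (⟨y, hBR hyB⟩ : ↥R) ∈ S0 from hyB))
    rw [hφ, EmbeddingLike.map_eq_one_iff, EmbeddingLike.map_eq_one_iff] at h1
    have h2 : F.π i y a = a := congrArg Subtype.val (Equiv.ext_iff.1 h1 ⟨a, by simp [s]⟩)
    rw [hπ, Equiv.swap_apply_left] at h2
    exact hab h2.symm
  have hproper : ∀ X : Subgroup ↥R, S0 ≤ X → X ≠ ⊤ → X ≤ (S0.map φ).comap φ := by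
    intro X hSX hX x hx
    refine (two_of_proper hφS (map_mono hSX) ?_).le (mem_map_of_mem φ hx)
    intro htop
    refine hX (eq_top_of_card_eq X ?_)
    have hcand : X.map R.subtype ∈ {R : Subgroup G | B ≤ R ∧ R ≤ Rm ∧ Rm ≤ R ⊔ C0} := by
      refine ⟨fun g hg => ⟨⟨g, hBR hg⟩, hSX hg, rfl⟩, (map_subtype_le X).trans hRle,
        hRsup.trans (sup_le (fun g hg => ?_) le_sup_right)⟩
      obtain ⟨x, hxX, hxφ⟩ := htop.ge (mem_top (φ ⟨g, hg⟩))
      have hd : ((x⁻¹ * ⟨g, hg⟩ : ↥R) : G) ∈ B ⊔ cee 2 G :=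
        hW.ge (hker _ (by rw [map_mul, map_inv, hxφ, inv_mul_cancel]))
      rw [← SetLike.mem_coe, mul_normal] at hd
      obtain ⟨β, hβ, c, hcc, hβc⟩ := hd
      have hcL : c ∈ L := by
        rw [show c = β⁻¹ * ((x⁻¹ * ⟨g, hg⟩ : ↥R) : G) by rw [← hβc]; simp]
        exact mul_mem (inv_mem (hBL hβ)) (hRle (x⁻¹ * ⟨g, hg⟩ : ↥R).2).1
      have hge : g = (x : G) * β * c := by
        rw [mul_assoc]
        change β * c = ((x : G))⁻¹ * g at hβc
        rw [hβc]; group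
      rw [hge]
      exact mul_mem (mem_sup_left (mul_mem (mem_map_of_mem _ hxX) ⟨⟨β, hBR hβ⟩, hSX hβ, rfl⟩))
        (mem_sup_right ⟨hcL, hcc⟩)
    refine le_antisymm (card_le_card_group X) ?_
    rw [← card_map_of_injective R.subtype_injective (K := X)]
    exact hmin _ hcand
  have hsyl : ∀ {P' : Subgroup ↥R}, IsPGroup 2 P' → S0 ≤ P' → P' = S0 := by
    intro P' hP' hle
    refine le_antisymm (fun x hx => ?_) hle
    have h1 : P'.map φ = S0.map φ :=
      (eq_of_le_of_card_ge (map_mono hle) (by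
        rw [hφS, card_two_of_pgroup (hP'.map φ) fun e => by
          have := card_le_of_le (map_mono (f := φ) hle)
          rw [hφS, e, Subgroup.card_bot] at this
          omega])).symm
    obtain ⟨β, hβ, hβφ⟩ := h1.le (mem_map_of_mem φ hx)
    have hd : ((β⁻¹ * x : ↥R) : G) ∈ B ⊔ cee 2 G :=
      hW.ge (hker _ (by rw [map_mul, map_inv, hβφ, inv_mul_cancel]))
    rw [← SetLike.mem_coe, mul_normal] at hd
    obtain ⟨γ, hγ, c, hcc, hγc⟩ := hd
    have hcR : c ∈ R := by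
      rw [show c = γ⁻¹ * ((β⁻¹ * x : ↥R) : G) by rw [← hγc]; simp]
      exact mul_mem (inv_mem (hBR hγ)) (β⁻¹ * x : ↥R).2
    have hcP : c ∈ P'.map R.subtype := by
      rw [show c = γ⁻¹ * ((β⁻¹ * x : ↥R) : G) by rw [← hγc]; simp]
      exact mul_mem (inv_mem ⟨⟨γ, hBR hγ⟩, hle hγ, rfl⟩)
        (mem_map_of_mem _ (mul_mem (inv_mem (hle hβ)) hx))
    have hc0 : c ∈ Cfsg.pCore 2 G :=
      le_core_of_le_cee hc (P := P'.map R.subtype ⊓ cee 2 G) ((hP'.map _).to_le inf_le_left) inf_le_right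
        ⟨hcP, hcc⟩
    have hcB : c ∈ B := by
      have : c ∈ pee 2 (T : Subgroup G) := co.L_core.le ⟨(hRle hcR).1, hc0⟩
      exact (co.P_eq.ge this).2
    show (x : G) ∈ B
    change γ * c = (β : G)⁻¹ * (x : G) at hγc
    rw [show (x : G) = (β : G) * (γ * c) by rw [hγc]; group]
    exact mul_mem hβ (mul_mem hγ hcB)
  let S : Sylow 2 ↥R := ⟨S0, hS0p, hsyl⟩
  have hMx : (S0.map φ).comap φ ≠ (⊤ : Subgroup ↥R) := by
    intro e
    have h1 : S0.map φ = ⊤ := by
      rw [eq_top_iff]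
      intro y _
      obtain ⟨x, rfl⟩ := hφs y
      exact e.ge (mem_top x)
    have h2 : Nat.card ↥(S0.map φ) = 6 := by
      obtain ⟨e'⟩ := exists_perm_three_psl
      rw [h1, card_top, ← Nat.card_congr e'.toEquiv, Nat.card_perm, Nat.card_fin]; rfl
    omega
  have hpeeB : pee 2 (T : Subgroup G) ≤ B := co.P_eq.ge.trans inf_le_right
  have hgen : R ⊔ (T : Subgroup G) = ⊤ := by
    by_contra hne
    have hXM : R ⊔ (T : Subgroup G) ≤ M := hc.le_max le_sup_right hne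
    obtain ⟨l, -, -, -, e, heE, heR, heπ⟩ := hget (Equiv.swap ⟨P.f i, by simp [s]⟩ ⟨a, by simp [s]⟩)
    have heM : (e : G) ∈ M :=
      (sup_le (hRsup.trans (sup_le (le_sup_left.trans hXM) (inf_le_right.trans hc.cee_le))) hc.cee_le) heR
    rw [Equiv.Perm.ofSubtype_swap_eq] at heπ
    exact hc.hM.1 (eq_top_of_moves h P hc.hTM hc.cee_le heE heM ha heπ)
  refine ⟨R, hBR, hRle.trans inf_le_left, ⟨S, φ.ker, rfl, ?_⟩, ?_, ?_⟩
  · refine ⟨?_, ⟨(S0.map φ).comap φ, ⟨⟨hMx, fun X hX => ?_⟩, le_comap_map _ _⟩, fun X hX => ?_⟩, ?_, le_rfl,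
      inferInstance, φ, hφs, rfl⟩
    · haveI := pee_normal (p := 2) (T : Subgroup G)
      have hpp : IsPGroup 2 ↥((pee 2 (T : Subgroup G)).subgroupOf R) :=
        (T.isPGroup'.to_le (hpeeB.trans inf_le_left)).comap_subtype
      have hpc := H72.le_pCore (p := 2) (N := (pee 2 (T : Subgroup G)).subgroupOf R) inferInstance hpp
      intro x hx
      refine hpc (co.P_cent (mem_centralizer_iff.2 fun y hy => ?_) : (x : G) ∈ _)
      exact congrArg Subtype.val (mem_centralizer_iff.1 hx ⟨y, hBR (hpeeB hy)⟩ (hpc hy))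
    · by_contra hne
      exact lt_irrefl _ (lt_of_lt_of_le hX (hproper X ((le_comap_map φ S0).trans hX.le) hne))
    · obtain ⟨hXc, hSX⟩ := hX
      have hle := hproper X hSX hXc.1
      rcases hle.eq_or_lt with e | e
      · exact e
      · exact absurd (hXc.2 _ e) hMx
    · rw [ZMod.card, pow_one]
  · intro X hXS hinv hn
    by_contra hne
    set X' := X.map R.subtype with hX'
    have hX'B : X' ≤ B := by
      rintro _ ⟨x, hx, rfl⟩; exact hXS hx
    have hchar : (X'.subgroupOf B).Characteristic := by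
      refine characteristic_iff_le_comap.2 fun α => ?_
      intro β hβ
      obtain ⟨x, hx, hxβ⟩ := hβ
      let e : ↥S0 ≃* ↥B := Subgroup.subgroupOfEquivOfLe hBR
      have h1 := hinv ((e.trans α).trans e.symm) ⟨x, hXS hx⟩ hx
      refine ⟨_, h1, ?_⟩
      show (e ((e.symm (α (e ⟨x, hXS hx⟩)))) : G) = (α β : G)
      rw [e.apply_symm_apply]
      congr 2
      exact Subtype.ext hxβ
    refine hc.hchar X' hX'B (fun e => hne ((map_eq_bot_iff_of_injective X R.subtype_injective).1 e)) hchar ?_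
    rw [← normalizer_eq_top_iff, eq_top_iff]
    have hRT : R ⊔ (T : Subgroup G) ≤ normalizer (X' : Set G) := by
      refine sup_le (fun g hg => ?_) ((H51.le_normalizer_baumann _).trans
        (H34.Push.normalizer_le_of_characteristic hX'B hchar))
      refine H74.mem_normalizer_of_conj_mem ?_
      rintro _ ⟨x, hx, rfl⟩
      exact ⟨⟨g, hg⟩ * x * ⟨g, hg⟩⁻¹, hn.conj_mem x hx _, rfl⟩
    exact hgen.ge.trans hRT
  · exact hgen

end Cfsg.Agent.H29.Push
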